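import Groth.Agent.GitQuot.Orbits
import Groth.Agent.Hopf.FreeOrbit

/-!
# Orbits and equivariant maps
-/

set_option autoImplicit false
set_option linter.unusedSectionVars false

universe u

open TensorProduct WithConv

noncomputable section

namespace Groth.ComodLib.Luna

variable {k : Type u} [Field k] {A : Type u} [CommRing A] [HopfAlgebra k A]
  {R : Type u} [CommRing R] [Algebra k R] [HopfRep.Comod k A R] [GLin.IsCoactAlg k A R]
  {S : Type u} [CommRing S] [Algebra k S] [HopfRep.Comod k A S] [GLin.IsCoactAlg k A S]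

/-- an equivariant map of algebras as a morphism of comodules -/
theorem isComodHom_of_equiv (θ : S →ₐ[k] R)
    (h : ∀ s : S, HopfRep.Comod.coact (k := k) (A := A) (θ s) =
      Algebra.TensorProduct.map θ (AlgHom.id k A) (HopfRep.Comod.coact (k := k) (A := A) s)) :
    Hoch.IsComodHom A θ.toLinearMap := by
  refine LinearMap.ext fun s => (h s).trans ?_
  change _ = LinearMap.rTensor A θ.toLinearMap (HopfRep.Comod.coact (k := k) (A := A) s)
  induction HopfRep.Comod.coact (k := k) (A := A) s using TensorProduct.induction_on with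
  | zero => simp
  | tmul a b => simp
  | add a b ha hb => simp only [map_add, ha, hb]

/-- orbit morphisms along an equivariant map -/
theorem orbitHom_comp {θ : S →ₐ[k] R} (hθ : Hoch.IsComodHom A θ.toLinearMap) (x : R →ₐ[k] k) (s : S) :
    GLin.orbitHom k A (x.comp θ) s = GLin.orbitHom k A x (θ s) := by
  refine sub_eq_zero.1 ((Module.forall_dual_apply_eq_zero_iff k _).1 fun ψ => ?_)
  rw [map_sub, GitQuot.dual_orbitHom, GitQuot.dual_orbitHom, AlgHom.comp_apply]
  rw [show θ (op ψ s) = op ψ (θ.toLinearMap s) from isComodHom_op hθ ψ s]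
  exact sub_self _

theorem actPt_comp {θ : S →ₐ[k] R} (hθ : Hoch.IsComodHom A θ.toLinearMap) (g : A →ₐ[k] k) (x : R →ₐ[k] k) :
    GLin.actPt k g (x.comp θ) = (GLin.actPt k g x).comp θ :=
  AlgHom.ext fun s => congrArg g (orbitHom_comp hθ x s)

/-- the translation of functions as an algebra map -/
def actAlg (g : A →ₐ[k] k) : R →ₐ[k] R :=
  AlgHom.ofLinearMap (op g.toLinearMap)
    (by
      rw [op_apply, GLin.IsCoactAlg.coact_one (k := k) (A := A) (R := R), Algebra.TensorProduct.one_def, slice_tmul]
      simp)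
    (fun a b => by
      rw [op_apply, op_apply, op_apply, GLin.IsCoactAlg.coact_mul]
      generalize HopfRep.Comod.coact (k := k) (A := A) a = z
      generalize HopfRep.Comod.coact (k := k) (A := A) b = w
      induction z using TensorProduct.induction_on with
      | zero => simp
      | add p q hp hq => simp only [map_add, add_mul, hp, hq]
      | tmul p c =>
        induction w using TensorProduct.induction_on with
        | zero => simp
        | add p' q' hp hq => simp only [map_add, mul_add, hp, hq]
        | tmul p' c' => simp [smul_smul, mul_comm])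

theorem actAlg_apply (g : A →ₐ[k] k) (f : R) : actAlg g f = op g.toLinearMap f := rfl

theorem actAlg_eq_act (g : A →ₐ[k] k) (f : R) : actAlg g f = HopfRep.Comod.act k A R g f := rfl

theorem actAlg_actAlg_inv [IsAlgClosed k] [Algebra.FiniteType k A] [Algebra.FiniteType k R] (g : A →ₐ[k] k) (f : R) :
    actAlg g (actAlg (GitQuot.pointInv g) f) = f :=
  GitQuot.act_pointInv g f

section Points

variable [IsAlgClosed k] [Algebra.FiniteType k A] [Algebra.FiniteType k R]

theorem actPt_apply (x : R →ₐ[k] k) (g : A →ₐ[k] k) (f : R) : GLin.actPt k g x f = x (actAlg g f) :=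
  GitQuot.apply_actPt x g f

/-- a translated point has the same orbit closure -/
theorem ker_orbitHom_actPt (x : R →ₐ[k] k) (g : A →ₐ[k] k) :
    RingHom.ker (GLin.orbitHom k A (GLin.actPt k g x)) = RingHom.ker (GLin.orbitHom k A x) := by
  refine le_antisymm (fun f hf => ?_) (GitQuot.ker_orbitHom_mono x _ (GitQuot.ker_orbitHom_le_actPt x g))
  have h := RingHom.mem_ker.1 hf
  refine (GitQuot.ker_orbitHom_mono _ x ((GitQuot.le_ker_iff _ _).2 fun f' hf' => ?_)) hf
  have e := hf' (GitQuot.pointInv g)
  rw [GitQuot.apply_actPt, GitQuot.act_pointInv] at e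
  exact e

/-- in a closed orbit every point of the closure is a translate -/
theorem exists_actPt_eq {y z : R →ₐ[k] k} (hy : GLin.IsClosedOrbit k A y)
    (hz : RingHom.ker (GLin.orbitHom k A y) ≤ RingHom.ker z) : ∃ g : A →ₐ[k] k, GLin.actPt k g y = z := by
  have hmax : (RingHom.ker z).IsMaximal :=
    RingHom.ker_isMaximal_of_surjective z fun c => ⟨algebraMap k R c, z.commutes c⟩
  have hmem : (⟨RingHom.ker z, hmax.isPrime⟩ : PrimeSpectrum R) ∈
      Set.range (PrimeSpectrum.comap (GLin.orbitHom k A y).toRingHom) := by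
    rw [← hy.closure_eq, PrimeSpectrum.closure_range_comap, PrimeSpectrum.mem_zeroLocus]
    exact hz
  obtain ⟨⟨Q, hQ⟩, hQz⟩ := hmem
  obtain ⟨g, hg⟩ := GitQuot.exists_point (k := k) Q hQ.ne_top
  refine ⟨g, AlgHom.ext fun f => ?_⟩
  have h1 : f - algebraMap k R (z f) ∈ RingHom.ker z := by simp [RingHom.mem_ker]
  have h2 : GLin.orbitHom k A y (f - algebraMap k R (z f)) ∈ Q := by
    have := (congrArg (fun P : PrimeSpectrum R => P.asIdeal) hQz).ge h1
    exact this
  have h3 := RingHom.mem_ker.1 (hg h2)
  rw [map_sub, map_sub, AlgHom.commutes, AlgHom.commutes, sub_eq_zero] at h3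
  exact h3

theorem ker_orbitHom_eq_of_closed {y z : R →ₐ[k] k} (hy : GLin.IsClosedOrbit k A y)
    (hz : RingHom.ker (GLin.orbitHom k A y) ≤ RingHom.ker z) :
    RingHom.ker (GLin.orbitHom k A z) = RingHom.ker (GLin.orbitHom k A y) := by
  obtain ⟨g, rfl⟩ := exists_actPt_eq hy hz
  exact ker_orbitHom_actPt y g

/-- points with the same invariants as a closed orbit degenerate to it -/
theorem ker_orbitHom_le_of_closed (hG : HopfRep.IsLinearlyReductive k A) {y y' : R →ₐ[k] k}
    (hy : GLin.IsClosedOrbit k A y) (h : ∀ f ∈ HopfRep.fixedPts k A R, y' f = y f) :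
    RingHom.ker (GLin.orbitHom k A y') ≤ RingHom.ker (GLin.orbitHom k A y) := by
  obtain ⟨z, hz', hz⟩ := GitQuot.exists_common_point hG y' y h
  exact (GitQuot.ker_orbitHom_mono y' z hz').trans (ker_orbitHom_eq_of_closed hy hz).le

/-- the image of a closed orbit under a finite map is closed -/
theorem isClosedOrbit_comp [Algebra S R] [IsScalarTower k S R] [Algebra.IsIntegral S R]
    (hθ : Hoch.IsComodHom A (IsScalarTower.toAlgHom k S R).toLinearMap) {x : R →ₐ[k] k}
    (hx : GLin.IsClosedOrbit k A x) :
    GLin.IsClosedOrbit k A (x.comp (IsScalarTower.toAlgHom k S R)) := by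
  unfold GLin.IsClosedOrbit at hx ⊢
  have e : (GLin.orbitHom k A (x.comp (IsScalarTower.toAlgHom k S R))).toRingHom =
      (GLin.orbitHom k A x).toRingHom.comp (algebraMap S R) :=
    RingHom.ext fun s => orbitHom_comp hθ x s
  rw [e, PrimeSpectrum.comap_comp, Set.range_comp]
  exact PrimeSpectrum.isClosedMap_comap_of_isIntegral _ (algebraMap_isIntegral_iff.2 inferInstance) _ hx

end Points

end Groth.ComodLib.Luna
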