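import Groth.Agent.Hopf.Luna.Orbit
import Groth.Prelude.Def_ComodSub
import Mathlib.LinearAlgebra.TensorProduct.RightExactness

/-!
# Coactions on quotient algebras and tensor products of algebras
-/

set_option autoImplicit false
set_option linter.unusedSectionVars false

universe u

open TensorProduct

noncomputable section

namespace Groth.ComodLib.Luna

variable {k : Type u} [Field k] {A : Type u} [CommRing A] [HopfAlgebra k A]

/-- a coaction given by an algebra map satisfying the comodule laws -/
theorem isCoactAlg_of_algHom {R : Type u} [CommRing R] [Algebra k R] [c : HopfRep.Comod k A R]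
    (ρ : R →ₐ[k] R ⊗[k] A) (h : ∀ r, HopfRep.Comod.coact (k := k) (A := A) r = ρ r) :
    GLin.IsCoactAlg k A R :=
  ⟨by rw [h, map_one], fun f g => by rw [h, h, h, map_mul]⟩

theorem map_id_eq_rTensor {R T : Type u} [CommRing R] [Algebra k R] [CommRing T] [Algebra k T]
    (f : R →ₐ[k] T) (z : R ⊗[k] A) :
    Algebra.TensorProduct.map f (AlgHom.id k A) z = f.toLinearMap.rTensor A z := by
  induction z using TensorProduct.induction_on with
  | zero => simp
  | tmul a b => simp
  | add a b ha hb => simp only [map_add, ha, hb]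

section Quot

variable {R : Type u} [CommRing R] [Algebra k R] [HopfRep.Comod k A R] [GLin.IsCoactAlg k A R]

/-- the coaction on the quotient by a stable ideal -/
@[reducible] def comodQuot (I : Ideal R) (hI : HopfRep.IsSubcomod (k := k) (A := A) (I.restrictScalars k)) :
    HopfRep.Comod k A (R ⧸ I) :=
  ComodSub.Comod.quot inferInstance (I.restrictScalars k) hI

theorem comodQuot_mk (I : Ideal R) (hI : HopfRep.IsSubcomod (k := k) (A := A) (I.restrictScalars k)) (r : R) :
    (comodQuot I hI).coact (Ideal.Quotient.mkₐ k I r) =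
      Algebra.TensorProduct.map (Ideal.Quotient.mkₐ k I) (AlgHom.id k A)
        (HopfRep.Comod.coact (k := k) (A := A) r) := by
  rw [map_id_eq_rTensor]
  rfl

theorem isCoactAlg_comodQuot (I : Ideal R) (hI : HopfRep.IsSubcomod (k := k) (A := A) (I.restrictScalars k)) :
    @GLin.IsCoactAlg k _ A _ _ (R ⧸ I) _ _ (comodQuot I hI) := by
  letI := comodQuot I hI
  refine ⟨?_, fun f g => ?_⟩
  · rw [← map_one (Ideal.Quotient.mkₐ k I)]
    refine (comodQuot_mk I hI 1).trans ?_
    rw [GLin.IsCoactAlg.coact_one (k := k) (A := A) (R := R), map_one]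
  · obtain ⟨a, rfl⟩ := Ideal.Quotient.mkₐ_surjective k I f
    obtain ⟨b, rfl⟩ := Ideal.Quotient.mkₐ_surjective k I g
    rw [← map_mul]
    refine (comodQuot_mk I hI _).trans ?_
    rw [GLin.IsCoactAlg.coact_mul, map_mul, ← comodQuot_mk I hI, ← comodQuot_mk I hI]

theorem isComodHom_mk (I : Ideal R) (hI : HopfRep.IsSubcomod (k := k) (A := A) (I.restrictScalars k)) :
    @Hoch.IsComodHom k _ A _ _ _ R _ _ _ (R ⧸ I) _ _ (comodQuot I hI) (Ideal.Quotient.mkₐ k I).toLinearMap :=
  ComodSub.isComodHom_mkQ _ (I.restrictScalars k) hI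

end Quot

section Tensor

variable (k A) in
/-- the coaction on a tensor product of algebras as an algebra map -/
def tensorCoact (S B : Type u) [CommRing S] [Algebra k S] [HopfRep.Comod k A S] [GLin.IsCoactAlg k A S]
    [CommRing B] [Algebra k B] [HopfRep.Comod k A B] [GLin.IsCoactAlg k A B] :
    S ⊗[k] B →ₐ[k] (S ⊗[k] B) ⊗[k] A :=
  Algebra.TensorProduct.lift
    ((Algebra.TensorProduct.map Algebra.TensorProduct.includeLeft (AlgHom.id k A)).comp (GLin.coactAlgHom k A S))
    ((Algebra.TensorProduct.map Algebra.TensorProduct.includeRight (AlgHom.id k A)).comp (GLin.coactAlgHom k A B))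
    (fun _ _ => .all ..)

variable {S B : Type u} [CommRing S] [Algebra k S] [HopfRep.Comod k A S] [GLin.IsCoactAlg k A S]
  [CommRing B] [Algebra k B] [HopfRep.Comod k A B] [GLin.IsCoactAlg k A B]

theorem tensorCoact_left (s : S) :
    tensorCoact k A S B ((Algebra.TensorProduct.includeLeft : S →ₐ[k] S ⊗[k] B) s) =
    Algebra.TensorProduct.map (Algebra.TensorProduct.includeLeft : S →ₐ[k] S ⊗[k] B) (AlgHom.id k A)
      (HopfRep.Comod.coact (k := k) (A := A) s) := by
  simp [tensorCoact, GLin.IsCoactAlg.coact_one]

theorem tensorCoact_right (b : B) : tensorCoact k A S B (Algebra.TensorProduct.includeRight b) =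
    Algebra.TensorProduct.map Algebra.TensorProduct.includeRight (AlgHom.id k A)
      (HopfRep.Comod.coact (k := k) (A := A) b) := by
  simp [tensorCoact, GLin.IsCoactAlg.coact_one]

theorem tensorCoact_coassoc_aux {X : Type u} [CommRing X] [Algebra k X] [HopfRep.Comod k A X]
    [GLin.IsCoactAlg k A X] (f : X →ₐ[k] S ⊗[k] B)
    (hf : ∀ x, tensorCoact k A S B (f x) =
      Algebra.TensorProduct.map f (AlgHom.id k A) (HopfRep.Comod.coact (k := k) (A := A) x)) (x : X) :
    Algebra.TensorProduct.assoc k k k (S ⊗[k] B) A A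
        (Algebra.TensorProduct.map (tensorCoact k A S B) (AlgHom.id k A) (tensorCoact k A S B (f x))) =
      Algebra.TensorProduct.map (AlgHom.id k (S ⊗[k] B)) (Bialgebra.comulAlgHom k A)
        (tensorCoact k A S B (f x)) := by
  rw [hf]
  have h1 : ∀ z : X ⊗[k] A, Algebra.TensorProduct.assoc k k k (S ⊗[k] B) A A
      (Algebra.TensorProduct.map (tensorCoact k A S B) (AlgHom.id k A)
        (Algebra.TensorProduct.map f (AlgHom.id k A) z)) =
      Algebra.TensorProduct.map f (AlgHom.id k (A ⊗[k] A))
        (TensorProduct.assoc k X A A ((HopfRep.Comod.coact (k := k) (A := A) (V := X)).rTensor A z)) := by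
    intro z
    induction z using TensorProduct.induction_on with
    | zero => simp
    | add p q hp hq => simp only [map_add, hp, hq]
    | tmul p a =>
      simp only [Algebra.TensorProduct.map_tmul, AlgHom.id_apply, hf, LinearMap.rTensor_tmul]
      induction HopfRep.Comod.coact (k := k) (A := A) p using TensorProduct.induction_on with
      | zero => simp
      | add s t hs ht => simp only [map_add, TensorProduct.add_tmul, hs, ht]
      | tmul s t => simp
  have hco := LinearMap.congr_fun (HopfRep.Comod.coassoc (k := k) (A := A) (V := X)) x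
  simp only [LinearMap.comp_apply, LinearEquiv.coe_coe] at hco
  rw [h1, hco]
  generalize HopfRep.Comod.coact (k := k) (A := A) x = z
  induction z using TensorProduct.induction_on with
  | zero => simp
  | add p q hp hq => simp only [map_add, hp, hq]
  | tmul p a => simp

theorem tensorCoact_counit_aux {X : Type u} [CommRing X] [Algebra k X] [HopfRep.Comod k A X]
    [GLin.IsCoactAlg k A X] (f : X →ₐ[k] S ⊗[k] B)
    (hf : ∀ x, tensorCoact k A S B (f x) =
      Algebra.TensorProduct.map f (AlgHom.id k A) (HopfRep.Comod.coact (k := k) (A := A) x)) (x : X) :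
    Algebra.TensorProduct.map (AlgHom.id k (S ⊗[k] B)) (Bialgebra.counitAlgHom k A)
      (tensorCoact k A S B (f x)) = f x ⊗ₜ[k] (1 : k) := by
  rw [hf]
  have hco := LinearMap.congr_fun (HopfRep.Comod.counit_comp (k := k) (A := A) (V := X)) x
  simp only [LinearMap.comp_apply, LinearMap.flip_apply, TensorProduct.mk_apply] at hco
  have h := congrArg (Algebra.TensorProduct.map f (AlgHom.id k k)) hco
  rw [Algebra.TensorProduct.map_tmul, AlgHom.id_apply] at h
  rw [← h]
  generalize HopfRep.Comod.coact (k := k) (A := A) x = z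
  induction z using TensorProduct.induction_on with
  | zero => simp
  | add p q hp hq => simp only [map_add, hp, hq]
  | tmul p a => simp

variable (k A S B) in
/-- the tensor product comodule algebra -/
@[reducible] def comodTensor : HopfRep.Comod k A (S ⊗[k] B) where
  coact := (tensorCoact k A S B).toLinearMap
  coassoc := by
    have e : (Algebra.TensorProduct.assoc k k k (S ⊗[k] B) A A).toAlgHom.comp
          ((Algebra.TensorProduct.map (tensorCoact k A S B) (AlgHom.id k A)).comp (tensorCoact k A S B)) =
        (Algebra.TensorProduct.map (AlgHom.id k (S ⊗[k] B)) (Bialgebra.comulAlgHom k A)).comp (tensorCoact k A S B) :=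
      Algebra.TensorProduct.ext
        (AlgHom.ext fun s => tensorCoact_coassoc_aux _ tensorCoact_left s)
        (AlgHom.ext fun b => tensorCoact_coassoc_aux _ tensorCoact_right b)
    exact LinearMap.ext fun p => DFunLike.congr_fun e p
  counit_comp := by
    have e : (Algebra.TensorProduct.map (AlgHom.id k (S ⊗[k] B)) (Bialgebra.counitAlgHom k A)).comp
          (tensorCoact k A S B) = Algebra.TensorProduct.includeLeft :=
      Algebra.TensorProduct.ext
        (AlgHom.ext fun s => tensorCoact_counit_aux _ tensorCoact_left s)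
        (AlgHom.ext fun b => tensorCoact_counit_aux _ tensorCoact_right b)
    exact LinearMap.ext fun p => DFunLike.congr_fun e p

theorem isCoactAlg_comodTensor : @GLin.IsCoactAlg k _ A _ _ (S ⊗[k] B) _ _ (comodTensor k A S B) :=
  @isCoactAlg_of_algHom k _ A _ _ (S ⊗[k] B) _ _ (comodTensor k A S B) (tensorCoact k A S B) fun _ => rfl

theorem isComodHom_includeLeft : @Hoch.IsComodHom k _ A _ _ _ S _ _ _ (S ⊗[k] B) _ _ (comodTensor k A S B)
    (Algebra.TensorProduct.includeLeft : S →ₐ[k] S ⊗[k] B).toLinearMap :=
  LinearMap.ext fun s => (tensorCoact_left s).trans (map_id_eq_rTensor _ _)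

theorem isComodHom_includeRight : @Hoch.IsComodHom k _ A _ _ _ B _ _ _ (S ⊗[k] B) _ _ (comodTensor k A S B)
    (Algebra.TensorProduct.includeRight : B →ₐ[k] S ⊗[k] B).toLinearMap :=
  LinearMap.ext fun b => (tensorCoact_right b).trans (map_id_eq_rTensor _ _)

end Tensor

end Groth.ComodLib.Luna
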