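import Groth.Agent.Hopf.Luna.Stable
import Mathlib.RingTheory.ZariskisMainTheorem

/-!
# Stable finite models at a quasi-finite point
-/

set_option autoImplicit false
set_option linter.unusedSectionVars false

universe u

open TensorProduct

noncomputable section

namespace Groth.ComodLib.Luna

variable {k : Type u} [Field k] [IsAlgClosed k] [CharZero k] {A : Type u} [CommRing A] [HopfAlgebra k A]
  [Algebra.FiniteType k A]
  {R : Type u} [CommRing R] [Algebra k R] [Algebra.FiniteType k R] [HopfRep.Comod k A R] [GLin.IsCoactAlg k A R]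
  {S : Type u} [CommRing S] [Algebra k S] [Algebra.FiniteType k S] [HopfRep.Comod k A S] [GLin.IsCoactAlg k A S]
  [Algebra S R] [IsScalarTower k S R]

/-- stability of a subalgebra over the base -/
def IsStableSub (B : Subalgebra S R) : Prop :=
  HopfRep.IsSubcomod (k := k) (A := A) (B.restrictScalars k).toSubmodule

/-- the coaction of a stable subalgebra -/
@[reducible] def comodSub (B : Subalgebra S R) (hB : IsStableSub (k := k) (A := A) B) : HopfRep.Comod k A B :=
  ComodSub.Comod.restr inferInstance (B.restrictScalars k).toSubmodule hB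

theorem map_val_injective (B : Subalgebra S R) :
    Function.Injective (Algebra.TensorProduct.map (B.restrictScalars k).val (AlgHom.id k A)) :=
  ComodSub.rTensor_subtype_injective (A := A) (B.restrictScalars k).toSubmodule

theorem map_val_coact (B : Subalgebra S R) (hB : IsStableSub (k := k) (A := A) B) (b : B) :
    Algebra.TensorProduct.map (B.restrictScalars k).val (AlgHom.id k A) ((comodSub B hB).coact b) =
      HopfRep.Comod.coact (k := k) (A := A) (b : R) :=
  ComodSub.restr_coact_coe _ (B.restrictScalars k).toSubmodule hB b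

theorem isCoactAlg_comodSub (B : Subalgebra S R) (hB : IsStableSub (k := k) (A := A) B) :
    @GLin.IsCoactAlg k _ A _ _ B _ _ (comodSub B hB) := by
  refine @GLin.IsCoactAlg.mk k _ A _ _ B _ _ (comodSub B hB) (map_val_injective B ?_) fun f g => map_val_injective B ?_
  · refine (map_val_coact B hB 1).trans (Eq.trans ?_ (map_one _).symm)
    rw [Subalgebra.coe_one]
    exact GLin.IsCoactAlg.coact_one
  · refine (map_val_coact B hB (f * g)).trans (Eq.trans ?_ (map_mul _ _ _).symm)
    rw [Subalgebra.coe_mul]
    exact (GLin.IsCoactAlg.coact_mul _ _).trans (congrArg₂ (· * ·) (map_val_coact B hB f).symm (map_val_coact B hB g).symm)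

theorem isComodHom_val (B : Subalgebra S R) (hB : IsStableSub (k := k) (A := A) B) :
    @Hoch.IsComodHom k _ A _ _ _ B _ _ (comodSub B hB) R _ _ _ (IsScalarTower.toAlgHom k B R).toLinearMap :=
  ComodSub.isComodHom_subtype _ (B.restrictScalars k).toSubmodule hB

theorem isComodHom_sub (hθ : Hoch.IsComodHom A (IsScalarTower.toAlgHom k S R).toLinearMap)
    (B : Subalgebra S R) (hB : IsStableSub (k := k) (A := A) B) :
    @Hoch.IsComodHom k _ A _ _ _ S _ _ _ B _ _ (comodSub B hB) (IsScalarTower.toAlgHom k S B).toLinearMap := by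
  refine LinearMap.ext fun s => map_val_injective (A := A) B ?_
  refine (map_val_coact B hB (algebraMap S B s)).trans ?_
  refine (LinearMap.congr_fun hθ s).trans ?_
  simp only [LinearMap.comp_apply]
  induction HopfRep.Comod.coact (k := k) (A := A) s using TensorProduct.induction_on with
  | zero => simp only [map_zero]; rfl
  | tmul p q => rfl
  | add p q hp hq => simp only [map_add, hp, hq]; exact (map_add _ _ _).symm

theorem mem_fixedPts_sub_iff (B : Subalgebra S R) (hB : IsStableSub (k := k) (A := A) B) (b : B) :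
    b ∈ @HopfRep.fixedPts k A _ _ _ B _ _ (comodSub B hB) ↔ (b : R) ∈ HopfRep.fixedPts k A R := by
  refine ⟨fun h => ?_, fun h => map_val_injective B ?_⟩
  · change HopfRep.Comod.coact (k := k) (A := A) (b : R) = (b : R) ⊗ₜ[k] (1 : A)
    rw [← map_val_coact B hB, show (comodSub B hB).coact b = b ⊗ₜ[k] (1 : A) from h]
    rfl
  · exact (map_val_coact B hB b).trans h

theorem IsStableSub.actAlg_mem {B : Subalgebra S R} (hB : IsStableSub (k := k) (A := A) B) (g : A →ₐ[k] k) {r : R}
    (hr : r ∈ B) : actAlg g r ∈ B :=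
  (isSubcomod_iff _).1 hB g.toLinearMap r hr

/-- a stable finite subalgebra, open near a quasi-finite point -/
theorem exists_stable_finite (hθ : Hoch.IsComodHom A (IsScalarTower.toAlgHom k S R).toLinearMap)
    (p : Ideal R) [p.IsPrime] [Algebra.QuasiFiniteAt S p] :
    ∃ B : Subalgebra S R, IsStableSub (k := k) (A := A) B ∧ Module.Finite S B ∧
      ∃ r ∈ B, r ∉ p ∧ ∀ y : R, ∃ n : ℕ, r ^ n * y ∈ B := by
  classical
  have hact : ∀ (g : A →ₐ[k] k) (s : S), actAlg g (algebraMap S R s) = algebraMap S R (actAlg g s) :=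
    fun g s => (isComodHom_op hθ g.toLinearMap s).symm
  have : Algebra.FiniteType S R := Algebra.FiniteType.of_restrictScalars_finiteType k S R
  let C : Submodule k R := ((integralClosure S R).restrictScalars k).toSubmodule
  have hC : HopfRep.IsSubcomod (k := k) (A := A) C := isSubcomod_of_actAlg C fun g a ha => by
    obtain ⟨q, hq, hqa⟩ := (ha : IsIntegral S a)
    refine ⟨q.map (actAlg g).toRingHom, hq.map _, ?_⟩
    rw [Polynomial.eval₂_map, show (algebraMap S R).comp (actAlg g).toRingHom =
      (actAlg g).toRingHom.comp (algebraMap S R) from RingHom.ext fun s => (hact g s).symm]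
    change Polynomial.eval₂ _ ((actAlg g).toRingHom a) q = 0
    rw [← Polynomial.hom_eval₂, hqa, map_zero]
  obtain ⟨r, hrp, hr, hrm⟩ := Algebra.zariskisMainProperty_iff.1 (Algebra.ZariskisMainProperty.of_finiteType (R := S) p)
  choose m hm using hrm
  obtain ⟨s, hs⟩ := Algebra.FiniteType.out (R := S) (A := R)
  let F : Finset R := insert r (s.image fun y => r ^ m y * y)
  have hFC : (F : Set R) ⊆ C := by
    intro a ha
    rcases Finset.mem_insert.1 ha with rfl | ha
    · exact hr
    · obtain ⟨y, -, rfl⟩ := Finset.mem_image.1 ha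
      exact hm y
  let W : Submodule k R := ⨆ a : F, gen (k := k) A (a.1 : R)
  have hWsub : HopfRep.IsSubcomod (k := k) (A := A) W := isSubcomod_iSup _ fun a => isSubcomod_gen _
  have hWC : W ≤ C := iSup_le fun a => gen_le hC (hFC a.2)
  obtain ⟨w, hw⟩ : W.FG := Submodule.fg_iSup _ fun a => Module.Finite.iff_fg.1 (finite_gen (a.1 : R))
  let B : Subalgebra S R := Algebra.adjoin S (W : Set R)
  have hFB : ∀ a ∈ F, a ∈ B := fun a ha =>
    Algebra.subset_adjoin (Submodule.mem_iSup_of_mem (⟨a, ha⟩ : F) (mem_gen_self a))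
  have hstab : IsStableSub (k := k) (A := A) B := isSubcomod_of_actAlg _ fun g a ha => by
    change actAlg g a ∈ B
    replace ha : a ∈ B := ha
    induction ha using Algebra.adjoin_induction with
    | mem x hx => exact Algebra.subset_adjoin ((isSubcomod_iff _).1 hWsub _ x hx)
    | algebraMap c => rw [hact]; exact B.algebraMap_mem _
    | add x y _ _ hx hy => rw [map_add]; exact add_mem hx hy
    | mul x y _ _ hx hy => rw [map_mul]; exact mul_mem hx hy
  have hB : B = Algebra.adjoin S (w : Set R) := by
    refine le_antisymm (Algebra.adjoin_le fun a ha => ?_) (Algebra.adjoin_mono (by rw [← hw]; exact Submodule.subset_span))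
    have hsub : W ≤ ((Algebra.adjoin S (w : Set R)).restrictScalars k).toSubmodule := by
      rw [← hw]; exact Submodule.span_le.2 Algebra.subset_adjoin
    exact hsub ha
  have hfin : Module.Finite S B := by
    rw [hB]
    exact ⟨(Submodule.fg_top _).2 (fg_adjoin_of_finite w.finite_toSet fun a ha => hWC (hw ▸ Submodule.subset_span ha))⟩
  refine ⟨B, hstab, hfin, r, hFB r (Finset.mem_insert_self _ _), hrp, fun y => ?_⟩
  have hrB := hFB r (Finset.mem_insert_self _ _)
  have hy : y ∈ Algebra.adjoin S (s : Set R) := hs ▸ Algebra.mem_top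
  induction hy using Algebra.adjoin_induction with
  | mem a ha => exact ⟨m a, hFB _ (Finset.mem_insert_of_mem (Finset.mem_image.2 ⟨a, ha, rfl⟩))⟩
  | algebraMap c => exact ⟨0, by simp⟩
  | add a b _ _ ha hb =>
    obtain ⟨i, hi⟩ := ha
    obtain ⟨j, hj⟩ := hb
    refine ⟨i + j, ?_⟩
    rw [show r ^ (i + j) * (a + b) = r ^ j * (r ^ i * a) + r ^ i * (r ^ j * b) by ring]
    exact add_mem (mul_mem (pow_mem hrB _) hi) (mul_mem (pow_mem hrB _) hj)
  | mul a b _ _ ha hb =>
    obtain ⟨i, hi⟩ := ha
    obtain ⟨j, hj⟩ := hb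
    refine ⟨i + j, ?_⟩
    rw [show r ^ (i + j) * (a * b) = (r ^ i * a) * (r ^ j * b) by ring]
    exact mul_mem hi hj

end Groth.ComodLib.Luna
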