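import Mathlib.RingTheory.Etale.Basic
import Mathlib.RingTheory.Kaehler.Basic
import Mathlib.RingTheory.TensorProduct.Basic
import Mathlib.LinearAlgebra.Matrix.NonsingularInverse

/-!
# The fibration of an ambient space over a smooth subvariety by complements of its tangent spaces

For generators `xb` of a smooth algebra `B` and derivations `τ` with `d xb_l = Σ τ_i xb_l • d xb_i` (a splitting
of the tangent bundle off the ambient one) and elements `y` of `S`, the algebra `S ⊗ B` modulo
`Σ_i (y_i - xb_i) τ_i xb_l` is étale over `S` where the determinant `detElt` is invertible.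
-/

set_option autoImplicit false
set_option linter.unusedSectionVars false

universe u

open TensorProduct

noncomputable section

namespace Groth.ComodLib.Luna

variable {k : Type u} [CommRing k] {B : Type u} [CommRing B] [Algebra k B]
  {S : Type u} [CommRing S] [Algebra k S] {ι : Type u} [Fintype ι] [DecidableEq ι]
  (xb : ι → B) (τ : ι → Derivation k B B) (y : ι → S)

/-- the matrix of the splitting -/
def projMat : Matrix ι ι B := Matrix.of fun l i => τ i (xb l)

/-- the displacement of a point of the ambient space -/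
def dispVec : ι → S ⊗[k] B := fun i => y i ⊗ₜ[k] 1 - 1 ⊗ₜ[k] xb i

/-- the equations of the fibre -/
def fibEq : ι → S ⊗[k] B := fun l => ∑ i, (1 ⊗ₜ[k] τ i (xb l)) * dispVec xb y i

/-- the ideal of the fibre -/
def fibIdeal : Ideal (S ⊗[k] B) := Ideal.span (Set.range (fibEq xb τ y))

/-- the error of the linearisation -/
def errMat : Matrix ι ι (S ⊗[k] B) :=
  Matrix.of fun l m => ∑ i, dispVec xb y i * (1 ⊗ₜ[k] τ m (τ i (xb l)))

/-- the determinant -/
def detElt : S ⊗[k] B := (1 - errMat xb τ y).det

variable {xb τ}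

theorem derivation_sum_apply {N : Type u} [AddCommGroup N] [Module k N] [Module B N] [IsScalarTower k B N]
    {κ : Type u} (s : Finset κ) (f : κ → Derivation k B N) (b : B) : (∑ i ∈ s, f i) b = ∑ i ∈ s, f i b := by
  classical
  induction s using Finset.induction_on with
  | empty => simp
  | insert a s ha ih => simp [Finset.sum_insert ha, ih]

theorem derivation_eq_sum (hgen : Algebra.adjoin k (Set.range xb) = ⊤)
    (hD : ∀ l, KaehlerDifferential.D k B (xb l) = ∑ i, τ i (xb l) • KaehlerDifferential.D k B (xb i))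
    {N : Type u} [AddCommGroup N] [Module k N] [Module B N] [IsScalarTower k B N]
    (δ : Derivation k B N) (b : B) : δ b = ∑ i, τ i b • δ (xb i) := by
  let δ' : Derivation k B N := ∑ i, (LinearMap.toSpanSingleton B N (δ (xb i))).compDer (τ i)
  have h : ∀ b, δ' b = ∑ i, τ i b • δ (xb i) := fun b => by
    simp [δ', derivation_sum_apply]
  rw [← h]
  refine congrFun (congrArg DFunLike.coe (Derivation.ext_of_adjoin_eq_top _ hgen ?_)) b
  rintro _ ⟨l, rfl⟩
  have e := congrArg δ.liftKaehlerDifferential (hD l)
  simp only [map_sum, map_smul, Derivation.liftKaehlerDifferential_comp_D] at e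
  rw [h]
  exact e

theorem projMat_idem (hgen : Algebra.adjoin k (Set.range xb) = ⊤)
    (hD : ∀ l, KaehlerDifferential.D k B (xb l) = ∑ i, τ i (xb l) • KaehlerDifferential.D k B (xb i)) (l j : ι) :
    τ j (xb l) = ∑ i, τ i (xb l) * τ j (xb i) :=
  derivation_eq_sum hgen hD (τ j) (xb l)

variable (xb τ) in
/-- the fibre -/
abbrev FibAlg : Type u := (S ⊗[k] B) ⧸ fibIdeal xb τ y

theorem formallyEtale_fib (hgen : Algebra.adjoin k (Set.range xb) = ⊤)
    (hD : ∀ l, KaehlerDifferential.D k B (xb l) = ∑ i, τ i (xb l) • KaehlerDifferential.D k B (xb i))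
    [Algebra.FormallySmooth k B]
    (L : Type u) [CommRing L] [Algebra S L] [Algebra (FibAlg xb τ y) L] [IsScalarTower S (FibAlg xb τ y) L]
    [IsLocalization.Away (Ideal.Quotient.mk (fibIdeal xb τ y) (detElt xb τ y)) L] :
    Algebra.FormallyEtale S L := by
  classical
  let I := fibIdeal xb τ y
  let d := Ideal.Quotient.mk I (detElt xb τ y)
  let π : S ⊗[k] B →ₐ[S] L := (IsScalarTower.toAlgHom S (FibAlg xb τ y) L).comp (Ideal.Quotient.mkₐ S I)
  refine Algebra.FormallyEtale.iff_comp_bijective.2 fun Q _ _ N hN => ?_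
  let : Algebra k Q := ((algebraMap S Q).comp (algebraMap k S)).toAlgebra
  have : IsScalarTower k S Q := .of_algebraMap_eq fun _ => rfl
  have hNN : ∀ a ∈ N, ∀ b ∈ N, a * b = 0 := fun a ha b hb => by
    have := Ideal.mul_mem_mul ha hb
    rwa [← pow_two, hN, Submodule.mem_bot] at this
  -- the values of the equations at a point of `B` in `Q`
  let ev : (B →ₐ[k] Q) → (S ⊗[k] B →ₐ[S] Q) := fun u =>
    Algebra.TensorProduct.lift (Algebra.ofId S Q) u (fun _ _ => .all ..)
  have hev : ∀ (u : B →ₐ[k] Q) s b, ev u (s ⊗ₜ b) = algebraMap S Q s * u b := fun u s b => by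
    simp [ev]
  have hfib : ∀ (u : B →ₐ[k] Q) l, ev u (fibEq xb τ y l) =
      ∑ i, u (τ i (xb l)) * (algebraMap S Q (y i) - u (xb i)) := fun u l => by
    simp [fibEq, dispVec, hev]
  have herr : ∀ (u : B →ₐ[k] Q) l m, ev u (errMat xb τ y l m) =
      ∑ i, (algebraMap S Q (y i) - u (xb i)) * u (τ m (τ i (xb l))) := fun u l m => by
    simp [errMat, dispVec, hev]
  -- a point moved by a derivation
  have key : ∀ (u : B →ₐ[k] Q) (δ : B → Q) (l : ι), (∀ b, δ b ∈ N) → ∀ (u' : B →ₐ[k] Q), (∀ b, u' b = u b + δ b) →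
      (∀ i, δ (τ i (xb l)) = ∑ m, u (τ m (τ i (xb l))) * δ (xb m)) →
      ev u' (fibEq xb τ y l) = ev u (fibEq xb τ y l) +
        ∑ m, ev u (errMat xb τ y l m) * δ (xb m) - ∑ i, u (τ i (xb l)) * δ (xb i) := by
    intro u δ l hδN u' hu' hδ
    rw [hfib, hfib]
    simp only [herr, hu', hδ, Finset.sum_mul]
    rw [Finset.sum_comm (γ := ι) (f := fun m i => (algebraMap S Q (y i) - u (xb i)) * u (τ m (τ i (xb l))) * δ (xb m)),
      ← Finset.sum_add_distrib, ← Finset.sum_sub_distrib]
    refine Finset.sum_congr rfl fun i _ => ?_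
    have h0 : (∑ m, u (τ m (τ i (xb l))) * δ (xb m)) * δ (xb i) = 0 := by
      rw [← hδ i]; exact hNN _ (hδN _) _ (hδN _)
    rw [show ∑ m, (algebraMap S Q (y i) - u (xb i)) * u (τ m (τ i (xb l))) * δ (xb m) =
      (algebraMap S Q (y i) - u (xb i)) * ∑ m, u (τ m (τ i (xb l))) * δ (xb m) by
        rw [Finset.mul_sum]; exact Finset.sum_congr rfl fun m _ => mul_assoc _ _ _]
    linear_combination -h0
  have hunit : ∀ z : Q, IsUnit (Ideal.Quotient.mk N z) → IsUnit z := fun z hz =>
    (IsNilpotent.isUnit_quotient_mk_iff ⟨2, hN⟩).1 hz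
  have hπd : IsUnit (π (detElt xb τ y)) :=
    IsLocalization.map_units L (⟨d, 1, pow_one d⟩ : Submonoid.powers d)
  have hsolve : ∀ (u : B →ₐ[k] Q), IsUnit (ev u (detElt xb τ y)) →
      IsUnit (1 - (errMat xb τ y).map (ev u)).det := fun u hu => by
    rwa [detElt, AlgHom.map_det, map_sub, map_one] at hu
  -- maps out of `L` are determined on `B`
  have hext : ∀ f₁ f₂ : L →ₐ[S] Q, (∀ b, f₁ (π (1 ⊗ₜ b)) = f₂ (π (1 ⊗ₜ b))) → f₁ = f₂ := by
    intro f₁ f₂ h
    have e : (f₁.comp (IsScalarTower.toAlgHom S (FibAlg xb τ y) L)) = f₂.comp (IsScalarTower.toAlgHom S (FibAlg xb τ y) L) := by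
      refine Ideal.Quotient.algHom_ext S ?_
      refine Algebra.TensorProduct.ext (AlgHom.ext fun s => ?_) (AlgHom.ext fun b => h b)
      exact (AlgHom.commutes _ s).trans (AlgHom.commutes _ s).symm
    refine AlgHom.coe_ringHom_injective (IsLocalization.ringHom_ext (Submonoid.powers d) (RingHom.ext fun r => ?_))
    exact DFunLike.congr_fun e r
  constructor
  · -- uniqueness
    intro f₁ f₂ h12
    let u : B →ₐ[k] Q := ((f₁.comp π).restrictScalars k).comp Algebra.TensorProduct.includeRight
    let u' : B →ₐ[k] Q := ((f₂.comp π).restrictScalars k).comp Algebra.TensorProduct.includeRight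
    have hu1 : ev u = f₁.comp π :=
      Algebra.TensorProduct.ext (AlgHom.ext fun s => (AlgHom.commutes _ s).trans (AlgHom.commutes _ s).symm)
        (AlgHom.ext fun b => by simp [ev, u])
    have hu2 : ev u' = f₂.comp π :=
      Algebra.TensorProduct.ext (AlgHom.ext fun s => (AlgHom.commutes _ s).trans (AlgHom.commutes _ s).symm)
        (AlgHom.ext fun b => by simp [ev, u'])
    have hN12 : ∀ b, u' b - u b ∈ N := fun b => by
      rw [← Ideal.Quotient.eq_zero_iff_mem, map_sub, sub_eq_zero]
      exact (DFunLike.congr_fun h12 (π (1 ⊗ₜ b))).symm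
    let : Algebra B Q := u.toRingHom.toAlgebra
    have : IsScalarTower k B Q := .of_algebraMap_eq fun c => (u.commutes c).symm
    have hsmul : ∀ (b : B) (q : Q), b • q = u b * q := fun _ _ => rfl
    let δ : Derivation k B Q := Derivation.mk' (u'.toLinearMap - u.toLinearMap) fun a b => by
      simp only [LinearMap.sub_apply, AlgHom.toLinearMap_apply, map_mul, hsmul]
      linear_combination hNN _ (hN12 a) _ (hN12 b)
    have hδ : ∀ b, δ b = u' b - u b := fun _ => rfl
    have hπ0 : ∀ l, π (fibEq xb τ y l) = 0 := fun l => by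
      change algebraMap (FibAlg xb τ y) L (Ideal.Quotient.mk I _) = 0
      have hI : fibEq xb τ y l ∈ I := Ideal.subset_span ⟨l, rfl⟩
      rw [Ideal.Quotient.eq_zero_iff_mem.2 hI, map_zero]
    let w : ι → Q := fun m => δ (xb m)
    have hw : (1 - (errMat xb τ y).map (ev u)).mulVec w = 0 := by
      ext l
      have h := key u δ l hN12 u' (fun b => by rw [hδ]; ring) (fun i => by
        rw [derivation_eq_sum hgen hD δ (τ i (xb l))]
        simp only [hsmul])
      rw [hu2, hu1, show (f₂.comp π) (fibEq xb τ y l) = f₂ (π (fibEq xb τ y l)) from rfl,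
        show (f₁.comp π) (fibEq xb τ y l) = f₁ (π (fibEq xb τ y l)) from rfl, hπ0, map_zero, map_zero, zero_add] at h
      have h2 : δ (xb l) = ∑ i, u (τ i (xb l)) * δ (xb i) := by
        rw [derivation_eq_sum hgen hD δ (xb l)]
        simp only [hsmul]
      rw [← h2] at h
      rw [Matrix.sub_mulVec, Matrix.one_mulVec, Pi.sub_apply, Pi.zero_apply, hu1]
      simp only [Matrix.mulVec, dotProduct, Matrix.map_apply, w]
      linear_combination h
    have hdet := hsolve u (by rw [hu1]; exact hπd.map f₁)
    have hw0 : w = 0 := by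
      have h := congrArg (1 - (errMat xb τ y).map (ev u))⁻¹.mulVec hw
      rwa [Matrix.mulVec_mulVec, Matrix.nonsing_inv_mul _ hdet, Matrix.one_mulVec, Matrix.mulVec_zero] at h
    refine hext _ _ fun b => ?_
    have h := derivation_eq_sum hgen hD δ b
    simp only [show ∀ m, δ (xb m) = 0 from fun m => congrFun hw0 m, smul_zero, Finset.sum_const_zero] at h
    rw [hδ, sub_eq_zero] at h
    exact h.symm
  · -- existence
    intro g
    obtain ⟨u, hu⟩ := Algebra.FormallySmooth.exists_lift N ⟨2, hN⟩
      (((g.comp π).restrictScalars k).comp (Algebra.TensorProduct.includeRight : B →ₐ[k] S ⊗[k] B))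
    have hmk : ∀ z, Ideal.Quotient.mk N (ev u z) = g (π z) := by
      intro z
      have e : (Ideal.Quotient.mkₐ S N).comp (ev u) = g.comp π :=
        Algebra.TensorProduct.ext (AlgHom.ext fun s => (AlgHom.commutes _ s).trans (AlgHom.commutes _ s).symm)
          (AlgHom.ext fun b => by simpa [ev] using DFunLike.congr_fun hu b)
      exact DFunLike.congr_fun e z
    let : Algebra B Q := u.toRingHom.toAlgebra
    have : IsScalarTower k B Q := .of_algebraMap_eq fun c => (u.commutes c).symm
    have hsmul : ∀ (b : B) (q : Q), b • q = u b * q := fun _ _ => rfl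
    let E := (errMat xb τ y).map (ev u)
    let c : ι → Q := fun l => ev u (fibEq xb τ y l)
    have hcN : ∀ l, c l ∈ N := fun l => by
      rw [← Ideal.Quotient.eq_zero_iff_mem, hmk]
      change g (algebraMap (FibAlg xb τ y) L (Ideal.Quotient.mk I _)) = 0
      have hI : fibEq xb τ y l ∈ I := Ideal.subset_span ⟨l, rfl⟩
      rw [Ideal.Quotient.eq_zero_iff_mem.2 hI, map_zero, map_zero]
    have hdet : IsUnit (1 - E).det := hsolve u (hunit _ (by rw [hmk]; exact hπd.map g))
    let w : ι → Q := (1 - E)⁻¹.mulVec c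
    have hwN : ∀ m, w m ∈ N := fun m => Ideal.sum_mem _ fun l _ => Ideal.mul_mem_left _ _ (hcN l)
    have hwc : w = c + E.mulVec w := by
      have h : (1 - E).mulVec w = c := by
        rw [Matrix.mulVec_mulVec, Matrix.mul_nonsing_inv _ hdet, Matrix.one_mulVec]
      rw [Matrix.sub_mulVec, Matrix.one_mulVec, sub_eq_iff_eq_add] at h
      exact h
    let δ : Derivation k B Q := ∑ m, (LinearMap.toSpanSingleton B Q (w m)).compDer (τ m)
    have hδ : ∀ b, δ b = ∑ m, u (τ m b) * w m := fun b => by simp [δ, derivation_sum_apply, hsmul]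
    have hδN : ∀ b, δ b ∈ N := fun b => by
      rw [hδ]; exact Ideal.sum_mem _ fun m _ => Ideal.mul_mem_left _ _ (hwN m)
    -- `w` is tangent
    have hPw : ∀ l, δ (xb l) = w l := by
      intro l
      have hPc : ∑ i, u (τ i (xb l)) * c i = c l := by
        simp only [c, hfib, Finset.mul_sum, ← mul_assoc]
        rw [Finset.sum_comm]
        refine Finset.sum_congr rfl fun i _ => ?_
        rw [← Finset.sum_mul]
        congr 1
        rw [projMat_idem hgen hD l i, map_sum]
        simp only [map_mul]
      have hPE : ∑ i, u (τ i (xb l)) * (E.mulVec w) i = (E.mulVec w) l := by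
        have hder : ∀ j m, u (τ m (τ j (xb l))) = ∑ i, (u (τ i (xb l)) * u (τ m (τ j (xb i))) +
            u (τ j (xb i)) * u (τ m (τ i (xb l)))) := fun j m => by
          conv_lhs => rw [projMat_idem hgen hD l j]
          simp only [map_sum, Derivation.leibniz, smul_eq_mul, map_add, map_mul]
        have h1 : ∀ m, E l m = ∑ i, u (τ i (xb l)) * E i m + ∑ i, u (τ m (τ i (xb l))) * c i := by
          intro m
          simp only [E, Matrix.map_apply, herr, c, hfib]
          rw [Finset.sum_congr rfl fun j _ => congrArg ((algebraMap S Q (y j) - u (xb j)) * ·) (hder j m)]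
          simp only [Finset.mul_sum, mul_add, Finset.sum_add_distrib]
          congr 1 <;>
          · rw [Finset.sum_comm]
            exact Finset.sum_congr rfl fun a _ => Finset.sum_congr rfl fun b _ => by ring
        simp only [Matrix.mulVec, dotProduct, Finset.mul_sum, h1, add_mul, Finset.sum_mul, Finset.sum_add_distrib]
        rw [Finset.sum_eq_zero (f := fun m => ∑ i, u (τ m (τ i (xb l))) * c i * w m) fun m _ =>
          Finset.sum_eq_zero fun i _ => by rw [mul_assoc, hNN _ (hcN i) _ (hwN m), mul_zero], add_zero,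
          Finset.sum_comm]
        exact Finset.sum_congr rfl fun a _ => Finset.sum_congr rfl fun b _ => (mul_assoc _ _ _).symm
      rw [hδ]
      conv_lhs => rw [hwc]
      conv_rhs => rw [hwc]
      simp only [Pi.add_apply, mul_add, Finset.sum_add_distrib, hPc, hPE]
    let u' : B →ₐ[k] Q := AlgHom.ofLinearMap (u.toLinearMap + δ.toLinearMap)
      (by simp) (fun a b => by
        simp only [LinearMap.add_apply, AlgHom.toLinearMap_apply, map_mul, Derivation.coeFn_coe, Derivation.leibniz, hsmul]
        linear_combination -hNN _ (hδN a) _ (hδN b))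
    have hu' : ∀ b, u' b = u b + δ b := fun _ => rfl
    have hkill : ∀ l, ev u' (fibEq xb τ y l) = 0 := by
      intro l
      rw [key u δ l hδN u' hu' (fun i => by simp only [hδ (τ i (xb l)), hPw])]
      have h1 : ∑ i, u (τ i (xb l)) * δ (xb i) = w l := by
        rw [← hPw l, hδ (xb l)]; simp only [hPw]
      have h2 : ∑ m, ev u (errMat xb τ y l m) * δ (xb m) = E.mulVec w l := by
        simp only [hPw]; rfl
      have h3 : w l = c l + E.mulVec w l := congrFun hwc l
      rw [h1, h2]
      linear_combination -h3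
    let fR : FibAlg xb τ y →ₐ[S] Q := Ideal.Quotient.liftₐ I (ev u') fun z hz => by
      have hle : I ≤ RingHom.ker (ev u') := Ideal.span_le.2 (by rintro _ ⟨l, rfl⟩; exact hkill l)
      exact hle hz
    have hmk' : ∀ z, Ideal.Quotient.mk N (ev u' z) = g (π z) := by
      intro z
      have e : (Ideal.Quotient.mkₐ S N).comp (ev u') = g.comp π :=
        Algebra.TensorProduct.ext (AlgHom.ext fun s => (AlgHom.commutes _ s).trans (AlgHom.commutes _ s).symm)
          (AlgHom.ext fun b => by
            have h := hmk (1 ⊗ₜ b)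
            simp only [hev, map_one, one_mul] at h
            simpa [ev, hu', Ideal.Quotient.eq_zero_iff_mem.2 (hδN b)] using h)
      exact DFunLike.congr_fun e z
    have hfd : ∀ m : Submonoid.powers d, IsUnit (fR m) := by
      rintro ⟨_, n, rfl⟩
      rw [map_pow]
      exact IsUnit.pow n (hunit _ (by
        change IsUnit (Ideal.Quotient.mk N (ev u' (detElt xb τ y)))
        rw [hmk']; exact hπd.map g))
    refine ⟨IsLocalization.liftAlgHom (S := L) (M := Submonoid.powers d) (f := fR) hfd, ?_⟩
    refine AlgHom.coe_ringHom_injective (IsLocalization.ringHom_ext (Submonoid.powers d) (RingHom.ext fun r => ?_))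
    obtain ⟨z, rfl⟩ := Ideal.Quotient.mk_surjective r
    change Ideal.Quotient.mk N (IsLocalization.liftAlgHom (S := L) (M := Submonoid.powers d) (f := fR) hfd
      (algebraMap _ L (Ideal.Quotient.mk I z))) = g (π z)
    rw [IsLocalization.liftAlgHom_apply, IsLocalization.lift_eq, ← hmk']
    rfl

end Groth.ComodLib.Luna
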