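import Groth.Agent.Hopf.Luna.AlgComod
import Groth.Agent.Hopf.Luna.Stable
import Groth.Agent.Hopf.Luna.NormalFibre

/-!
# Stability of the fibres of an equivariant splitting
-/

set_option autoImplicit false
set_option linter.unusedSectionVars false

universe u

open TensorProduct

noncomputable section

namespace Groth.ComodLib.Luna

variable {k : Type u} [Field k] [IsAlgClosed k] [CharZero k] {A : Type u} [CommRing A]
  [HopfAlgebra k A] [Algebra.FiniteType k A]
  {S : Type u} [CommRing S] [Algebra k S] [Algebra.FiniteType k S] [HopfRep.Comod k A S] [GLin.IsCoactAlg k A S]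
  {B : Type u} [CommRing B] [Algebra k B] [Algebra.FiniteType k B] [HopfRep.Comod k A B] [GLin.IsCoactAlg k A B]
  {ι : Type u} [Fintype ι] [DecidableEq ι]

theorem isSubcomod_fibIdeal (M : Matrix ι ι A) (xb : ι → B) (τ : ι → Derivation k B B) (y : ι → S)
    (hy : ∀ i, HopfRep.Comod.coact (k := k) (A := A) (y i) = ∑ j, y j ⊗ₜ[k] M j i)
    (hxb : ∀ i, HopfRep.Comod.coact (k := k) (A := A) (xb i) = ∑ j, xb j ⊗ₜ[k] M j i)
    (hτeq : ∀ (g : A →ₐ[k] k) (l j : ι), ∑ i, g (M j i) • actAlg g (τ i (xb l)) = ∑ m, g (M m l) • τ j (xb m)) :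
    @HopfRep.IsSubcomod k A _ _ _ _ (S ⊗[k] B) _ _ (comodTensor k A S B)
      ((fibIdeal xb τ y).restrictScalars k) := by
  classical
  let := comodTensor k A S B
  have : GLin.IsCoactAlg k A (S ⊗[k] B) := isCoactAlg_comodTensor
  have : Algebra.FiniteType k (S ⊗[k] B) := Algebra.FiniteType.trans (S := S) inferInstance inferInstance
  refine isSubcomod_of_actAlg _ fun g t ht => ?_
  have hR : ∀ b : B, actAlg g ((1 : S) ⊗ₜ[k] b) = (1 : S) ⊗ₜ[k] actAlg g b := fun b =>
    (isComodHom_op isComodHom_includeRight g.toLinearMap b).symm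
  have hL : ∀ r : S, actAlg g (r ⊗ₜ[k] (1 : B)) = actAlg g r ⊗ₜ[k] (1 : B) := fun r =>
    (isComodHom_op isComodHom_includeLeft g.toLinearMap r).symm
  have hyv : ∀ i, actAlg g (y i) = ∑ j, g (M j i) • y j := fun i => by
    rw [actAlg_apply, op_apply, hy, map_sum]; simp
  have hxv : ∀ i, actAlg g (xb i) = ∑ j, g (M j i) • xb j := fun i => by
    rw [actAlg_apply, op_apply, hxb, map_sum]; simp
  have hd : ∀ i, actAlg g (dispVec (k := k) xb y i) = ∑ j, g (M j i) • dispVec (k := k) xb y j := fun i => by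
    simp only [dispVec, map_sub, hR, hL, hyv, hxv, TensorProduct.sum_tmul, TensorProduct.tmul_sum,
      ← TensorProduct.smul_tmul', TensorProduct.tmul_smul, smul_sub, Finset.sum_sub_distrib]
  have hact : ∀ l, actAlg g (fibEq xb τ y l) = ∑ m, g (M m l) • fibEq xb τ y m := by
    intro l
    simp only [fibEq, map_sum, map_mul, hd, hR, Finset.mul_sum, Finset.smul_sum]
    rw [Finset.sum_comm]
    conv_rhs => rw [Finset.sum_comm]
    refine Finset.sum_congr rfl fun j _ => ?_
    simp only [mul_smul_comm, ← smul_mul_assoc, ← Finset.sum_mul, ← TensorProduct.tmul_smul, ← TensorProduct.tmul_sum,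
      hτeq g l j]
  rw [Submodule.restrictScalars_mem] at ht ⊢
  have hle : fibIdeal xb τ y ≤ (fibIdeal xb τ y).comap (actAlg g) := Ideal.span_le.2 (by
    rintro _ ⟨l, rfl⟩
    simp only [SetLike.mem_coe, Ideal.mem_comap, hact]
    exact sum_mem fun m _ => ((fibIdeal xb τ y).restrictScalars k).smul_mem _ (Ideal.subset_span ⟨m, rfl⟩))
  exact hle ht

end Groth.ComodLib.Luna
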