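import Groth.Agent.Hopf.Luna.Fundamental
import Groth.Agent.Hopf.Luna.Stable

/-!
# A finite equivariant map near a closed orbit with injective stabilisers
-/

set_option autoImplicit false
set_option linter.unusedSectionVars false

universe u

open TensorProduct

noncomputable section

namespace Groth.ComodLib.Luna

variable {k : Type u} [Field k] [IsAlgClosed k] [CharZero k] {A : Type u} [CommRing A] [IsDomain A]
  [HopfAlgebra k A] [Algebra.FiniteType k A]
  {R : Type u} [CommRing R] [Algebra k R] [Algebra.FiniteType k R] [HopfRep.Comod k A R] [GLin.IsCoactAlg k A R]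
  {S : Type u} [CommRing S] [Algebra k S] [Algebra.FiniteType k S] [HopfRep.Comod k A S] [GLin.IsCoactAlg k A S]
  [Algebra S R] [IsScalarTower k S R] [Module.Finite S R]

/-- a point of a finite map with the same invariants and image as a closed orbit point is that point -/
theorem eq_of_invariants (hG : HopfRep.IsLinearlyReductive k A)
    (hθ : Hoch.IsComodHom A (IsScalarTower.toAlgHom k S R).toLinearMap)
    (x : R →ₐ[k] k) (hx : GLin.IsClosedOrbit k A x)
    (hinj : ∀ g : A →ₐ[k] k, GLin.actPt k g (x.comp (IsScalarTower.toAlgHom k S R)) = x.comp (IsScalarTower.toAlgHom k S R) →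
      GLin.actPt k g x = x)
    (x' : R →ₐ[k] k) (hinv : ∀ f ∈ HopfRep.fixedPts k A R, x' f = x f)
    (hy : x'.comp (IsScalarTower.toAlgHom k S R) = x.comp (IsScalarTower.toAlgHom k S R)) : x' = x := by
  have hint : Algebra.IsIntegral S R := Algebra.IsIntegral.of_finite S R
  have hle := ker_orbitHom_le_of_closed hG hx hinv
  have heq : RingHom.ker (GLin.orbitHom k A x') = RingHom.ker (GLin.orbitHom k A x) := by
    refine le_antisymm hle fun r hr => ?_
    by_contra hne
    have : (RingHom.ker (GLin.orbitHom k A x')).IsPrime := RingHom.ker_isPrime _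
    have h1 := Ideal.comap_lt_comap_of_integral_mem_sdiff (R := S) hle ⟨hr, hne⟩ (hint.isIntegral r)
    refine h1.ne (Ideal.ext fun s => ?_)
    simp only [Ideal.mem_comap, RingHom.mem_ker]
    change GLin.orbitHom k A x' (IsScalarTower.toAlgHom k S R s) = 0 ↔ GLin.orbitHom k A x (IsScalarTower.toAlgHom k S R s) = 0
    rw [← orbitHom_comp hθ, ← orbitHom_comp hθ, hy]
  obtain ⟨g, rfl⟩ := exists_actPt_eq hx (heq ▸ GitQuot.ker_orbitHom_le (A := A) x')
  exact hinj g (by rw [actPt_comp hθ]; exact hy)

/-- over an invariant neighbourhood of a closed orbit the base and the invariants generate -/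
theorem exists_mul_mem_adjoin (hG : HopfRep.IsLinearlyReductive k A)
    (hθ : Hoch.IsComodHom A (IsScalarTower.toAlgHom k S R).toLinearMap)
    (x : R →ₐ[k] k) (hx : GLin.IsClosedOrbit k A x) (m : Ideal R) [m.IsMaximal] (hm : m = RingHom.ker x.toRingHom)
    (het : Algebra.IsUnramifiedAt S m)
    (hinj : ∀ g : A →ₐ[k] k, GLin.actPt k g (x.comp (IsScalarTower.toAlgHom k S R)) = x.comp (IsScalarTower.toAlgHom k S R) →
      GLin.actPt k g x = x) :
    ∃ e ∈ HopfRep.fixedPts k A R, x e = 1 ∧
      ∀ b : R, e * b ∈ Algebra.adjoin S (HopfRep.fixedPts k A R : Set R) := by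
  classical
  set θ := IsScalarTower.toAlgHom k S R
  set y := x.comp θ with hydef
  let T := Algebra.adjoin S (HopfRep.fixedPts k A R : Set R)
  have : Module.Finite T R := Module.Finite.of_restrictScalars_finite S T R
  have hTact : ∀ (g : A →ₐ[k] k) (r : R), r ∈ T → actAlg g r ∈ T := by
    intro g r hr
    induction hr using Algebra.adjoin_induction with
    | mem z hz =>
      rw [show actAlg g z = z by rw [actAlg_apply, GitQuot.op_of_fixed hz]; simp]
      exact Algebra.subset_adjoin hz
    | algebraMap c =>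
      rw [show actAlg g (algebraMap S R c) = algebraMap S R (actAlg g c) from (isComodHom_op hθ g.toLinearMap c).symm]
      exact T.algebraMap_mem _
    | add a b _ _ ha hb => rw [map_add]; exact add_mem ha hb
    | mul a b _ _ ha hb => rw [map_mul]; exact mul_mem ha hb
  -- the conductor
  let d : Ideal R :=
    { carrier := {b | ∀ c : R, b * c ∈ T}
      zero_mem' := fun c => by rw [zero_mul]; exact zero_mem _
      add_mem' := fun ha hb c => by rw [add_mul]; exact add_mem (ha c) (hb c)
      smul_mem' := fun r b hb c => by rw [smul_eq_mul, mul_comm r b, mul_assoc]; exact hb _ }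
  have hd : HopfRep.IsSubcomod (k := k) (A := A) (d.restrictScalars k) := isSubcomod_of_actAlg _ fun g b hb c => by
    have h := hTact g _ (hb (actAlg (GitQuot.pointInv g) c))
    rwa [map_mul, actAlg_actAlg_inv] at h
  suffices hne : ∃ b ∈ d, x b ≠ 0 by
    obtain ⟨e, he, hed, hxe⟩ := exists_invariant_mem hG x hx d hd hne
    exact ⟨e, he, hxe, hed⟩
  let n : Ideal T := RingHom.ker (x.toRingHom.comp T.val.toRingHom)
  let L : Ideal R := n.map (algebraMap T R)
  let my : Ideal S := RingHom.ker y
  have hk : ∀ c : k, algebraMap k R c ∈ T := fun c => by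
    rw [IsScalarTower.algebraMap_apply k S R]; exact T.algebraMap_mem _
  have hmyL : my.map (algebraMap S R) ≤ L := Ideal.map_le_iff_le_comap.2 fun s hs =>
    Ideal.mem_map_of_mem (algebraMap T R) (show (⟨algebraMap S R s, T.algebraMap_mem s⟩ : T) ∈ n from hs)
  have hLm : m ≤ L := by
    intro r hr
    have hov : m.LiesOver my := ⟨by rw [hm]; rfl⟩
    have : my.IsPrime := RingHom.ker_isPrime _
    let := Localization.AtPrime.algebraOfLiesOver my m
    have hmap := ((Algebra.isUnramifiedAt_iff_map_eq S my m).1 het).2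
    rw [IsScalarTower.algebraMap_eq S R (Localization.AtPrime m), ← Ideal.map_map] at hmap
    have hr' : algebraMap R (Localization.AtPrime m) r ∈ (my.map (algebraMap S R)).map (algebraMap R _) := by
      rw [hmap]
      exact (IsLocalization.AtPrime.to_map_mem_maximal_iff (Localization.AtPrime m) m r).2 hr
    obtain ⟨u, hu, hur⟩ := (IsLocalization.algebraMap_mem_map_algebraMap_iff m.primeCompl _ _ _).1 hr'
    let J : Ideal R := L.colon (Ideal.span {r} : Set R)
    have hJ : ∀ v, v ∈ J ↔ v * r ∈ L := by
      intro v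
      rw [Submodule.mem_colon]
      refine ⟨fun h => h r (Ideal.mem_span_singleton_self r), fun h p hp => ?_⟩
      obtain ⟨c, rfl⟩ := Ideal.mem_span_singleton'.1 hp
      rw [smul_eq_mul, mul_left_comm]
      exact Ideal.mul_mem_left _ _ h
    by_contra hrL
    have hJne : J ≠ ⊤ := fun h => hrL (by simpa using (hJ 1).1 (h ▸ Submodule.mem_top))
    obtain ⟨x', hx'⟩ := GitQuot.exists_point (k := k) J hJne
    have hT : ∀ t : T, x' t = x t := by
      intro t
      let t' : T := t - ⟨algebraMap k R (x t), hk _⟩
      have ht' : t' ∈ n := by simp [n, t', RingHom.mem_ker]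
      have h2 : x' (algebraMap T R t') = 0 :=
        hx' ((hJ _).2 (Ideal.mul_mem_right _ _ (Ideal.mem_map_of_mem _ ht')))
      change x' ((t : R) - algebraMap k R (x t)) = 0 at h2
      rwa [map_sub, AlgHom.commutes, sub_eq_zero] at h2
    have hxx : x' = x := eq_of_invariants hG hθ x hx hinj x' (fun f hf => hT ⟨f, Algebra.subset_adjoin hf⟩)
      (AlgHom.ext fun s => hT ⟨algebraMap S R s, T.algebraMap_mem s⟩)
    have h3 : x u = 0 := hxx ▸ hx' ((hJ u).2 (hmyL hur))
    exact hu (hm ▸ h3)
  -- Nakayama
  let N : Submodule T R := LinearMap.range (Algebra.linearMap T R)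
  have hle : (⊤ : Submodule T (R ⧸ N)) ≤ n • ⊤ := by
    rintro w -
    obtain ⟨r, rfl⟩ := N.mkQ_surjective w
    have h1 : r - algebraMap k R (x r) ∈ L := hLm (by rw [hm]; simp [RingHom.mem_ker])
    have h2 : N.mkQ r = N.mkQ (r - algebraMap k R (x r)) := by
      refine (Submodule.Quotient.eq N).2 ?_
      rw [sub_sub_cancel]
      exact ⟨⟨_, hk _⟩, rfl⟩
    rw [h2]
    have h4 : r - algebraMap k R (x r) ∈ n • (⊤ : Submodule T R) := by rw [Ideal.smul_top_eq_map]; exact h1
    have h5 := Submodule.mem_map_of_mem (f := N.mkQ) h4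
    rw [Submodule.map_smul'', Submodule.map_top, Submodule.range_mkQ] at h5
    exact h5
  obtain ⟨u, hu, hu0⟩ := Submodule.exists_sub_one_mem_and_smul_eq_zero_of_fg_of_le_smul n ⊤ Module.Finite.fg_top hle
  refine ⟨(u : R), fun c => ?_, ?_⟩
  · obtain ⟨t, ht⟩ := (Submodule.Quotient.mk_eq_zero N).1 (hu0 (Submodule.Quotient.mk c) Submodule.mem_top)
    have : (u : R) * c = (t : R) := ht.symm
    rw [this]
    exact t.2
  · intro h0
    have h1 : x ((u : R) - 1) = 0 := hu
    rw [map_sub, h0, map_one, zero_sub, neg_eq_zero] at h1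
    exact one_ne_zero h1

end Groth.ComodLib.Luna
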