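import Groth.Agent.Hopf.Luna.Orbit
import Groth.Agent.Hopf.OrbitNbhd
import Mathlib.RingTheory.Unramified.LocalRing
import Mathlib.RingTheory.Nakayama

/-!
# The fundamental lemma: a finite equivariant map, étale at a closed orbit and injective on it,
is unramified on invariants
-/

set_option autoImplicit false
set_option linter.unusedSectionVars false

universe u

open TensorProduct Polynomial

noncomputable section

namespace Groth.ComodLib.Luna

variable {k : Type u} [Field k] [IsAlgClosed k] {A : Type u} [CommRing A] [IsDomain A] [HopfAlgebra k A]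
  [Algebra.FiniteType k A]
  {S : Type u} [CommRing S] [Algebra k S] [Algebra.FiniteType k S] [HopfRep.Comod k A S] [GLin.IsCoactAlg k A S]
  {R : Type u} [CommRing R] [Algebra k R] [Algebra.FiniteType k R] [HopfRep.Comod k A R] [GLin.IsCoactAlg k A R]
  [Algebra S R] [IsScalarTower k S R] [Module.Finite S R]

/-- invariant elements satisfy monic equations with invariant coefficients -/
theorem exists_monic_invariant (hG : HopfRep.IsLinearlyReductive k A)
    (hθ : Hoch.IsComodHom A (IsScalarTower.toAlgHom k S R).toLinearMap)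
    {a : R} (ha : a ∈ HopfRep.fixedPts k A R) :
    ∃ p : S[X], p.Monic ∧ (∀ i, p.coeff i ∈ HopfRep.fixedPts k A S) ∧ Polynomial.aeval a p = 0 := by
  classical
  have : Algebra.IsIntegral S R := Algebra.IsIntegral.of_finite S R
  obtain ⟨p, hp, hpa⟩ := Algebra.IsIntegral.isIntegral (R := S) a
  obtain ⟨ES, hES⟩ := GitQuot.exists_reynolds (V := S) (A := A) hG
  obtain ⟨ER, hER⟩ := GitQuot.exists_reynolds (V := R) (A := A) hG
  have h1S : (1 : S) ∈ HopfRep.fixedPts k A S := (GLin.invariants k A S).one_mem
  let q : S[X] := ∑ i ∈ Finset.range (p.natDegree + 1), Polynomial.monomial i (ES (p.coeff i))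
  have hq : ∀ i, q.coeff i = ES (p.coeff i) := by
    intro i
    simp only [q, Polynomial.finsetSum_coeff, Polynomial.coeff_monomial, Finset.sum_ite_eq', Finset.mem_range]
    split_ifs with h
    · rfl
    · rw [Polynomial.coeff_eq_zero_of_natDegree_lt (by omega), map_zero]
  have hqd : q.natDegree ≤ p.natDegree := Polynomial.natDegree_le_iff_coeff_eq_zero.2 fun i hi => by
    rw [hq, Polynomial.coeff_eq_zero_of_natDegree_lt hi, map_zero]
  refine ⟨q, Polynomial.monic_of_natDegree_le_of_coeff_eq_one _ hqd ?_, fun i => hq i ▸ hES.apply_mem _, ?_⟩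
  · rw [hq, hp.coeff_natDegree, (hES.fixed _).2 h1S]
  · have hfix : ∀ i : ℕ, a ^ i ∈ HopfRep.fixedPts k A R := fun i => (GLin.invariants k A R).pow_mem ha i
    rw [← Polynomial.aeval_def, Polynomial.aeval_eq_sum_range] at hpa
    have h := congrArg ER hpa
    rw [map_sum, map_zero] at h
    rw [Polynomial.aeval_eq_sum_range' (n := p.natDegree + 1) (by omega), ← h]
    refine Finset.sum_congr rfl fun i _ => ?_
    rw [Algebra.smul_def, Algebra.smul_def, hq, hER.map_mul (fun f g => GLin.IsCoactAlg.coact_mul f g) hG _ (hfix i)]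
    congr 1
    exact (LinearMap.congr_fun (hES.natural hG hER hθ) (p.coeff i)).symm

variable (k A S R) in
/-- the ideal generated by the invariants vanishing at the image point -/
def invImage (y : S →ₐ[k] k) : Ideal R :=
  Ideal.span (algebraMap S R '' {s | s ∈ HopfRep.fixedPts k A S ∧ y s = 0})

theorem op_mul_fixed {e : R} (he : e ∈ HopfRep.fixedPts k A R) (φ : A →ₗ[k] k) (p : R) :
    op φ (e * p) = e * op φ p := by
  rw [mul_comm e, mul_comm e]
  exact (isComodHom_op (GitQuot.isComodHom_mulRight (k := k) (A := A)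
    (fun f g => GLin.IsCoactAlg.coact_mul f g) he) φ p).symm

theorem isSubcomod_invImage (hθ : Hoch.IsComodHom A (IsScalarTower.toAlgHom k S R).toLinearMap) (y : S →ₐ[k] k) :
    HopfRep.IsSubcomod (k := k) (A := A) ((invImage k A S R y).restrictScalars k) :=
  (isSubcomod_iff _).2 fun φ f hf => by
    obtain ⟨m, c, g, rfl⟩ := Submodule.mem_span_set'.1 (Submodule.restrictScalars_mem k _ _ |>.1 hf)
    rw [map_sum]
    refine sum_mem fun i _ => ?_
    obtain ⟨s, hs, hg⟩ := (g i).2
    have hsfix : algebraMap S R s ∈ HopfRep.fixedPts k A R := GitQuot.map_mem_fixedPts hθ hs.1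
    rw [smul_eq_mul, ← hg, mul_comm, op_mul_fixed hsfix]
    exact Ideal.mul_mem_right _ _ (Ideal.subset_span ⟨s, hs, rfl⟩)

variable (k A S R) in
/-- elements killed into `invImage` by an invariant not vanishing at the point -/
def satIdeal (x : R →ₐ[k] k) : Ideal R where
  carrier := {r | ∃ e ∈ HopfRep.fixedPts k A R, x e ≠ 0 ∧
    e * r ∈ invImage k A S R (x.comp (IsScalarTower.toAlgHom k S R))}
  zero_mem' := ⟨1, (GLin.invariants k A R).one_mem, by simp, by simp⟩
  add_mem' := by
    rintro a b ⟨e, he, hxe, ha⟩ ⟨e', he', hxe', hb⟩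
    refine ⟨e * e', (GLin.invariants k A R).mul_mem he he', by rw [map_mul]; exact mul_ne_zero hxe hxe', ?_⟩
    rw [show e * e' * (a + b) = e' * (e * a) + e * (e' * b) by ring]
    exact add_mem (Ideal.mul_mem_left _ _ ha) (Ideal.mul_mem_left _ _ hb)
  smul_mem' := by
    rintro c a ⟨e, he, hxe, ha⟩
    refine ⟨e, he, hxe, ?_⟩
    rw [smul_eq_mul, mul_left_comm]
    exact Ideal.mul_mem_left _ _ ha

/-- the invariant part of the fundamental lemma: unramified on invariants -/
theorem exists_mul_mem_invImage (hG : HopfRep.IsLinearlyReductive k A)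
    (hθ : Hoch.IsComodHom A (IsScalarTower.toAlgHom k S R).toLinearMap)
    (x : R →ₐ[k] k) (hx : GLin.IsClosedOrbit k A x) (m : Ideal R) [m.IsMaximal] (hm : m = RingHom.ker x.toRingHom)
    (het : Algebra.IsUnramifiedAt S m)
    (hinj : ∀ g : A →ₐ[k] k, GLin.actPt k g (x.comp (IsScalarTower.toAlgHom k S R)) = x.comp (IsScalarTower.toAlgHom k S R) →
      GLin.actPt k g x = x)
    {a : R} (ha : a ∈ HopfRep.fixedPts k A R) (hxa : x a = 0) :
    ∃ e ∈ HopfRep.fixedPts k A R, x e ≠ 0 ∧
      e * a ∈ invImage k A S R (x.comp (IsScalarTower.toAlgHom k S R)) := by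
  classical
  set θ := IsScalarTower.toAlgHom k S R with hθdef
  set y := x.comp θ with hydef
  have hint : Algebra.IsIntegral S R := Algebra.IsIntegral.of_finite S R
  have hy : GLin.IsClosedOrbit k A y := isClosedOrbit_comp hθ hx
  let K := satIdeal k A S R x
  have hIK : invImage k A S R y ≤ K := fun r hr =>
    ⟨1, (GLin.invariants k A R).one_mem, by simp, by rw [one_mul]; exact hr⟩
  have hKx : ∀ r ∈ K, x r = 0 := by
    rintro r ⟨e, -, hxe, her⟩
    have h1 : invImage k A S R y ≤ RingHom.ker x := Ideal.span_le.2 (by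
      rintro _ ⟨s, hs, rfl⟩
      exact hs.2)
    have h2 := RingHom.mem_ker.1 (h1 her)
    rw [map_mul] at h2
    exact (mul_eq_zero.1 h2).resolve_left hxe
  have hKsub : HopfRep.IsSubcomod (k := k) (A := A) (K.restrictScalars k) :=
    (isSubcomod_iff _).2 fun φ r hr => by
      obtain ⟨e, he, hxe, her⟩ := hr
      refine ⟨e, he, hxe, ?_⟩
      rw [← op_mul_fixed he]
      exact (isSubcomod_iff _).1 (isSubcomod_invImage hθ y) φ _ her
  -- points of `K` lie over the image of `x` among the invariants
  have hover : ∀ x' : R →ₐ[k] k, K ≤ RingHom.ker x' → ∀ f ∈ HopfRep.fixedPts k A R, x' f = x f := by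
    intro x' hx' f hf
    by_contra hne
    let b := f - algebraMap k R (x f)
    have hb : b ∈ HopfRep.fixedPts k A R := (GLin.invariants k A R).sub_mem hf ((GLin.invariants k A R).algebraMap_mem _)
    obtain ⟨p, hp, hpfix, hpb⟩ := exists_monic_invariant hG hθ hb
    let p₀ : k[X] := p.map y.toRingHom
    obtain ⟨q, hq, hq0⟩ := Polynomial.exists_eq_pow_rootMultiplicity_mul_and_not_dvd p₀ (hp.map _).ne_zero 0
    set j := p₀.rootMultiplicity 0
    rw [map_zero, sub_zero] at hq hq0
    have hmem : Polynomial.aeval b p₀ ∈ invImage k A S R y := by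
      rw [Polynomial.aeval_eq_sum_range' (n := p.natDegree + 1) (Nat.lt_succ_of_le (Polynomial.natDegree_map_le)),
        ← sub_zero (Finset.sum _ _), ← hpb, Polynomial.aeval_eq_sum_range, ← Finset.sum_sub_distrib]
      refine sum_mem fun i _ => ?_
      rw [Algebra.smul_def, Algebra.smul_def, ← sub_mul]
      refine Ideal.mul_mem_right _ _ ?_
      rw [Polynomial.coeff_map, IsScalarTower.algebraMap_apply k S R, ← map_sub]
      exact Ideal.subset_span ⟨_, ⟨(GLin.invariants k A S).sub_mem ((GLin.invariants k A S).algebraMap_mem _)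
        (hpfix i), by simp [y]⟩, rfl⟩
    have he : Polynomial.aeval b q ∈ HopfRep.fixedPts k A R := by
      have : Polynomial.aeval b q ∈ Algebra.adjoin k {b} := by
        rw [Algebra.adjoin_singleton_eq_range_aeval]; exact ⟨q, rfl⟩
      exact Algebra.adjoin_le (S := GLin.invariants k A R) (Set.singleton_subset_iff.2 hb) this
    have hxb : x b = 0 := by simp [b]
    have hxe : x (Polynomial.aeval b q) ≠ 0 := by
      rw [← Polynomial.aeval_algHom_apply, hxb, Polynomial.coe_aeval_eq_eval]
      intro h
      exact hq0 (Polynomial.X_dvd_iff.2 (by rwa [Polynomial.coeff_zero_eq_eval_zero]))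
    have hbK : b ^ j ∈ K := ⟨_, he, hxe, by
      rw [mul_comm]
      rw [hq, map_mul, map_pow, Polynomial.aeval_X] at hmem
      exact hmem⟩
    have h0 := RingHom.mem_ker.1 (hx' hbK)
    rw [map_pow] at h0
    have h1 := eq_zero_of_pow_eq_zero h0
    rw [map_sub, AlgHom.commutes, sub_eq_zero] at h1
    exact hne h1
  -- a point of `K` over `y` is `x`
  have hpt : ∀ x' : R →ₐ[k] k, K ≤ RingHom.ker x' → x'.comp θ = y → x' = x := by
    intro x' hK hy'
    have hle := ker_orbitHom_le_of_closed hG hx (hover x' hK)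
    have heq : RingHom.ker (GLin.orbitHom k A x') = RingHom.ker (GLin.orbitHom k A x) := by
      refine le_antisymm hle fun r hr => ?_
      by_contra hne
      have : (RingHom.ker (GLin.orbitHom k A x')).IsPrime := RingHom.ker_isPrime _
      have h1 := Ideal.comap_lt_comap_of_integral_mem_sdiff (R := S) hle ⟨hr, hne⟩ (hint.isIntegral r)
      refine h1.ne (Ideal.ext fun s => ?_)
      simp only [Ideal.mem_comap, RingHom.mem_ker]
      change GLin.orbitHom k A x' (θ s) = 0 ↔ GLin.orbitHom k A x (θ s) = 0
      rw [← orbitHom_comp hθ, ← orbitHom_comp hθ, hy']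
    obtain ⟨g, rfl⟩ := exists_actPt_eq hx (heq ▸ GitQuot.ker_orbitHom_le (A := A) x')
    exact hinj g (by rw [hydef, actPt_comp hθ]; exact hy')
  -- the fibre of `K` over `y` is the reduced point
  let my : Ideal S := RingHom.ker y
  let L : Ideal R := K ⊔ my.map (algebraMap S R)
  have hKm : K ≤ m := fun r hr => hm ▸ hKx r hr
  have hLm : L = m := by
    refine le_antisymm (sup_le hKm (Ideal.map_le_iff_le_comap.2 fun s hs => ?_)) fun r hr => ?_
    · rw [hm]; exact hs
    · have hov : m.LiesOver my := ⟨by rw [hm]; rfl⟩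
      have : my.IsPrime := RingHom.ker_isPrime _
      let := Localization.AtPrime.algebraOfLiesOver my m
      have hmap := ((Algebra.isUnramifiedAt_iff_map_eq S my m).1 het).2
      rw [IsScalarTower.algebraMap_eq S R (Localization.AtPrime m), ← Ideal.map_map] at hmap
      have hr' : algebraMap R (Localization.AtPrime m) r ∈ (my.map (algebraMap S R)).map (algebraMap R _) := by
        rw [hmap]
        exact (IsLocalization.AtPrime.to_map_mem_maximal_iff (Localization.AtPrime m) m r).2 hr
      obtain ⟨u, hu, hur⟩ := (IsLocalization.algebraMap_mem_map_algebraMap_iff m.primeCompl _ _ _).1 hr'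
      let J : Ideal R := L.colon (Ideal.span {r} : Set R)
      have hJ : ∀ v, v ∈ J ↔ v * r ∈ L := by
        intro v
        rw [Submodule.mem_colon]
        refine ⟨fun h => h r (Ideal.mem_span_singleton_self r), fun h p hp => ?_⟩
        obtain ⟨c, rfl⟩ := Ideal.mem_span_singleton'.1 hp
        rw [smul_eq_mul, mul_left_comm]
        exact Ideal.mul_mem_left _ _ h
      by_contra hrL
      have hJne : J ≠ ⊤ := fun h => hrL (by simpa using (hJ 1).1 (h ▸ Submodule.mem_top))
      obtain ⟨x', hx'⟩ := GitQuot.exists_point (k := k) J hJne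
      have hLJ : L ≤ J := fun v hv => (hJ v).2 (Ideal.mul_mem_right _ _ hv)
      have hxx : x' = x := hpt x' ((le_sup_left.trans hLJ).trans hx') (AlgHom.ext fun s => by
        have h1 : s - algebraMap k S (y s) ∈ my := by simp [my, RingHom.mem_ker]
        have h2 := RingHom.mem_ker.1 (hx' (hLJ (Submodule.mem_sup_right (Ideal.mem_map_of_mem (algebraMap S R) h1))))
        rw [map_sub, ← IsScalarTower.algebraMap_apply, map_sub, AlgHom.commutes, sub_eq_zero] at h2
        exact h2)
      have h3 : x u = 0 := hxx ▸ hx' ((hJ u).2 (Submodule.mem_sup_right hur))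
      exact hu (hm ▸ h3)
  -- the base surjects onto the fibre
  let N : Submodule S R := LinearMap.range (Algebra.linearMap S R) ⊔ K.restrictScalars S
  have hN : ∀ g : A →ₐ[k] k, ∀ r ∈ N, actAlg g r ∈ N := by
    intro g r hr
    obtain ⟨p, ⟨t, rfl⟩, q, hq, rfl⟩ := Submodule.mem_sup.1 hr
    rw [map_add]
    refine add_mem (Submodule.mem_sup_left ⟨actAlg g t, ?_⟩) (Submodule.mem_sup_right ((isSubcomod_iff _).1 hKsub _ q hq))
    exact isComodHom_op hθ g.toLinearMap t
  let C : Ideal S := N.colon (Set.univ : Set R)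
  have hC : ∀ s, s ∈ C ↔ ∀ r : R, s • r ∈ N := fun s => by
    simp [C, Submodule.mem_colon]
  have hCtop : C = ⊤ := by
    by_contra hne
    obtain ⟨y', hy'⟩ := GitQuot.exists_point (k := k) C hne
    have hCy : C ≤ RingHom.ker (GLin.orbitHom k A y') := by
      intro s hs
      have hle : C ≤ RingHom.ker y' := hy'
      refine RingHom.mem_ker.2 (IsNilpotent.eq_zero (GitQuot.isNilpotent_of_forall_point (k := k) (B := A) _ fun g => ?_))
      change GLin.actPt k g y' s = 0
      rw [actPt_apply]
      refine hle ((hC _).2 fun r => ?_)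
      rw [Algebra.smul_def]
      have e : algebraMap S R (actAlg g s) * r = actAlg g (algebraMap S R s * actAlg (GitQuot.pointInv g) r) := by
        rw [map_mul, actAlg_actAlg_inv]
        congr 1
        exact (isComodHom_op hθ g.toLinearMap s).trans rfl
      rw [e]
      refine hN g _ ?_
      rw [← Algebra.smul_def]
      exact (hC s).1 hs _
    have hy'y : ∀ f ∈ HopfRep.fixedPts k A S, y' f = y f := by
      intro f hf
      have h1 : f - algebraMap k S (y f) ∈ C := (hC _).2 fun r => by
        refine Submodule.mem_sup_right (hIK ?_)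
        rw [Algebra.smul_def]
        exact Ideal.mul_mem_right _ _ (Ideal.subset_span ⟨_, ⟨(GLin.invariants k A S).sub_mem hf
          ((GLin.invariants k A S).algebraMap_mem _), by simp⟩, rfl⟩)
      have h2 := RingHom.mem_ker.1 (hy' h1)
      rwa [map_sub, AlgHom.commutes, sub_eq_zero] at h2
    have hCy0 : C ≤ RingHom.ker y :=
      (hCy.trans (ker_orbitHom_le_of_closed hG hy hy'y)).trans (GitQuot.ker_orbitHom_le (A := A) y)
    -- Nakayama
    have hle : (⊤ : Submodule S (R ⧸ N)) ≤ my • ⊤ := by
      rintro w -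
      obtain ⟨r, rfl⟩ := N.mkQ_surjective w
      have h1 : r - algebraMap k R (x r) ∈ L := by rw [hLm, hm]; simp [RingHom.mem_ker]
      obtain ⟨c, hc, d, hd, hcd⟩ := Submodule.mem_sup.1 h1
      have h2 : r - d ∈ N := by
        rw [show r - d = algebraMap k R (x r) + c by linear_combination -hcd]
        refine Submodule.add_mem _ (Submodule.mem_sup_left ⟨algebraMap k S (x r), ?_⟩) (Submodule.mem_sup_right hc)
        rw [Algebra.linearMap_apply, ← IsScalarTower.algebraMap_apply]
      have h3 : N.mkQ r = N.mkQ d := (Submodule.Quotient.eq N).2 h2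
      rw [h3]
      have h4 : d ∈ my • (⊤ : Submodule S R) := by rw [Ideal.smul_top_eq_map]; exact hd
      have h5 := Submodule.mem_map_of_mem (f := N.mkQ) h4
      rw [Submodule.map_smul'', Submodule.map_top, Submodule.range_mkQ] at h5
      exact h5
    obtain ⟨u, hu, hu0⟩ := Submodule.exists_sub_one_mem_and_smul_eq_zero_of_fg_of_le_smul my ⊤ Module.Finite.fg_top hle
    have huC : u ∈ C := (hC u).2 fun r => (Submodule.Quotient.mk_eq_zero N).1 (hu0 (Submodule.Quotient.mk r) Submodule.mem_top)
    have h5 := RingHom.mem_ker.1 hu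
    rw [map_sub, map_one, RingHom.mem_ker.1 (hCy0 huC), zero_sub, neg_eq_zero] at h5
    exact one_ne_zero h5
  -- invariants of the fibre are constants
  have haN : a ∈ N := by simpa using (hC 1).1 (hCtop ▸ Submodule.mem_top) a
  obtain ⟨_, ⟨s, rfl⟩, q, hq, hsq⟩ := Submodule.mem_sup.1 haN
  obtain ⟨ES, hES⟩ := GitQuot.exists_reynolds (V := S) (A := A) hG
  obtain ⟨ER, hER⟩ := GitQuot.exists_reynolds (V := R) (A := A) hG
  have h1 := congrArg ER hsq
  rw [map_add, (hER.fixed _).2 ha] at h1
  have h2 : ER q ∈ K := hER.apply_mem_of_mem hG hKsub hq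
  have h3 : ER (Algebra.linearMap S R s) = algebraMap S R (ES s) := LinearMap.congr_fun (hES.natural hG hER hθ) s
  rw [h3] at h1
  have h4 : algebraMap S R (ES s) ∈ K := by
    refine hIK (Ideal.subset_span ⟨ES s, ⟨hES.apply_mem s, ?_⟩, rfl⟩)
    have h5 := congrArg x h1
    rw [map_add, hKx _ h2, add_zero, hxa] at h5
    exact h5
  obtain ⟨e, he, hxe, hea⟩ := (h1 ▸ add_mem h4 h2 : a ∈ K)
  exact ⟨e, he, hxe, hea⟩

end Groth.ComodLib.Luna
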