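import Groth.Agent.Hopf.Luna.EquivariantZMT
import Groth.Agent.Hopf.Luna.FiniteSlice
import Groth.Agent.Hopf.Luna.AlgComod
import Groth.Agent.S19401
import Mathlib.RingTheory.Unramified.LocalRing

/-!
# Generation by the base and the invariants near a closed orbit
-/

set_option autoImplicit false
set_option linter.unusedSectionVars false

universe u

open TensorProduct

noncomputable section

namespace Groth.ComodLib.Luna

variable {k : Type u} [Field k] [IsAlgClosed k] [CharZero k] {A : Type u} [CommRing A] [IsDomain A]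
  [HopfAlgebra k A] [Algebra.FiniteType k A]
  {R : Type u} [CommRing R] [Algebra k R] [Algebra.FiniteType k R] [HopfRep.Comod k A R] [GLin.IsCoactAlg k A R]
  {S : Type u} [CommRing S] [Algebra k S] [Algebra.FiniteType k S] [HopfRep.Comod k A S] [GLin.IsCoactAlg k A S]
  [Algebra S R] [IsScalarTower k S R]

theorem equiv_of_isComodHom {V W : Type u} [CommRing V] [Algebra k V]
    [CommRing W] [Algebra k W] [HopfRep.Comod k A V] [HopfRep.Comod k A W] (θ : V →ₐ[k] W)
    (hθ : Hoch.IsComodHom A θ.toLinearMap) (v : V) :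
    HopfRep.Comod.coact (k := k) (A := A) (θ v) =
      Algebra.TensorProduct.map θ (AlgHom.id k A) (HopfRep.Comod.coact (k := k) (A := A) v) :=
  (LinearMap.congr_fun hθ v).trans (map_id_eq_rTensor θ _).symm

/-- an equivariant map, unramified at a point over a closed orbit, injective on stabilisers: after inverting an
invariant the base and the invariants generate -/
theorem exists_invariant_generated (hG : HopfRep.IsLinearlyReductive k A)
    (hθ : Hoch.IsComodHom A (IsScalarTower.toAlgHom k S R).toLinearMap)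
    (x : R →ₐ[k] k) (m : Ideal R) [m.IsMaximal] (hm : m = RingHom.ker x.toRingHom)
    [Algebra.IsUnramifiedAt S m]
    (hy : GLin.IsClosedOrbit k A (x.comp (IsScalarTower.toAlgHom k S R)))
    (hinj : ∀ g : A →ₐ[k] k, GLin.actPt k g (x.comp (IsScalarTower.toAlgHom k S R)) = x.comp (IsScalarTower.toAlgHom k S R) →
      GLin.actPt k g x = x) :
    ∃ e ∈ HopfRep.fixedPts k A R, x e ≠ 0 ∧
      ∀ f : R, ∃ n : ℕ, e ^ n * f ∈ Algebra.adjoin S (HopfRep.fixedPts k A R : Set R) := by
  classical
  subst hm
  let θ := IsScalarTower.toAlgHom k S R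
  let y := x.comp θ
  set m := RingHom.ker x.toRingHom with hm
  have : IsNoetherianRing S := Algebra.FiniteType.isNoetherianRing k S
  have : Algebra.FiniteType S R := Algebra.FiniteType.of_restrictScalars_finiteType k S R
  have : Algebra.EssFiniteType S (Localization.AtPrime m) := Algebra.EssFiniteType.comp S R _
  have : Algebra.QuasiFiniteAt S m := inferInstance
  -- the finite model
  obtain ⟨B, hB, hBfin, r, hrB, hrm, hrpow⟩ := exists_stable_finite (A := A) hθ m
  let cB : HopfRep.Comod k A B := comodSub B hB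
  have : GLin.IsCoactAlg k A B := isCoactAlg_comodSub B hB
  have : Algebra.FiniteType k B := Algebra.FiniteType.trans (S := S) inferInstance inferInstance
  let val := IsScalarTower.toAlgHom k B R
  have hval : Hoch.IsComodHom A val.toLinearMap := isComodHom_val B hB
  have hθB : Hoch.IsComodHom A (IsScalarTower.toAlgHom k S B).toLinearMap := isComodHom_sub hθ B hB
  let xB := x.comp val
  have hxBy : xB.comp (IsScalarTower.toAlgHom k S B) = y := AlgHom.ext fun _ => rfl
  have hxB : GLin.IsClosedOrbit k A xB :=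
    (Groth.Agent.S19401.result k A S B (equiv_of_isComodHom _ hθB) xB).2 (hxBy ▸ hy)
  have hxr : x r ≠ 0 := hrm
  -- an invariant where the model is open
  let c : Ideal B :=
    { carrier := {b | ∀ f : R, ∃ n : ℕ, (b : R) ^ n * f ∈ B}
      zero_mem' := fun f => ⟨1, by simp⟩
      add_mem' := by
        intro a b ha hb f
        obtain ⟨i, hi⟩ := ha f
        obtain ⟨j, hj⟩ := hb f
        refine ⟨i + j, ?_⟩
        rw [Subalgebra.coe_add, add_pow, Finset.sum_mul]
        refine sum_mem fun l _ => ?_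
        rcases le_or_gt i l with h | h
        · rw [show (a : R) ^ l * (b : R) ^ (i + j - l) * ((i + j).choose l : ℕ) * f =
            ((a : R) ^ (l - i) * (b : R) ^ (i + j - l) * ((i + j).choose l : ℕ)) * ((a : R) ^ i * f) by
              rw [← Nat.add_sub_cancel' h, pow_add]; simp only [add_tsub_cancel_left]; ring]
          exact mul_mem (mul_mem (mul_mem (pow_mem a.2 _) (pow_mem b.2 _)) (natCast_mem B _)) hi
        · obtain ⟨d, hd⟩ : ∃ d, i + j - l = j + d := ⟨i - l, by omega⟩
          rw [show (a : R) ^ l * (b : R) ^ (i + j - l) * ((i + j).choose l : ℕ) * f =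
            ((a : R) ^ l * (b : R) ^ d * ((i + j).choose l : ℕ)) * ((b : R) ^ j * f) by rw [hd, pow_add]; ring]
          exact mul_mem (mul_mem (mul_mem (pow_mem a.2 _) (pow_mem b.2 _)) (natCast_mem B _)) hj
      smul_mem' := by
        intro a b hb f
        obtain ⟨i, hi⟩ := hb f
        refine ⟨i, ?_⟩
        rw [smul_eq_mul, Subalgebra.coe_mul, mul_pow, mul_assoc]
        exact mul_mem (pow_mem a.2 _) hi }
  have hc : HopfRep.IsSubcomod (k := k) (A := A) (c.restrictScalars k) := isSubcomod_of_actAlg _ fun g b hb f => by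
    obtain ⟨n, hn⟩ := hb (actAlg (GitQuot.pointInv g) f)
    refine ⟨n, ?_⟩
    have h := hB.actAlg_mem g hn
    rw [map_mul, map_pow, actAlg_actAlg_inv] at h
    rw [show ((actAlg g b : B) : R) = actAlg g (b : R) from isComodHom_op hval g.toLinearMap b]
    exact h
  obtain ⟨e₁, he₁fix, he₁c, hxe₁⟩ := exists_invariant_mem hG xB hxB c hc ⟨⟨r, hrB⟩, fun f => hrpow f, hxr⟩
  have he₁R : (e₁ : R) ∈ HopfRep.fixedPts k A R := (mem_fixedPts_sub_iff B hB e₁).1 he₁fix
  -- the model is unramified at the point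
  let mB : Ideal B := RingHom.ker xB.toRingHom
  have : mB.IsMaximal := RingHom.ker_isMaximal_of_surjective xB.toRingHom fun t => ⟨algebraMap k B t, xB.commutes t⟩
  have hloc : IsLocalization mB.primeCompl (Localization.AtPrime m) := by
    refine { map_units := ?_, surj := ?_, exists_of_eq := ?_ }
    · rintro ⟨b, hb⟩
      rw [IsScalarTower.algebraMap_apply B R (Localization.AtPrime m)]
      exact IsLocalization.map_units (M := m.primeCompl) (Localization.AtPrime m) ⟨(b : R), hb⟩
    · intro z
      obtain ⟨a, ⟨s, hs⟩, rfl⟩ := IsLocalization.exists_mk'_eq m.primeCompl z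
      obtain ⟨i, hi⟩ := hrpow a
      obtain ⟨j, hj⟩ := hrpow s
      refine ⟨(⟨r ^ j * (r ^ i * a), mul_mem (pow_mem hrB _) hi⟩, ⟨⟨r ^ i * (r ^ j * s), mul_mem (pow_mem hrB _) hj⟩, ?_⟩), ?_⟩
      · intro h
        have h' : x (r ^ i * (r ^ j * s)) = 0 := h
        rw [map_mul, map_mul, map_pow, map_pow] at h'
        exact mul_ne_zero (pow_ne_zero i hxr) (mul_ne_zero (pow_ne_zero j hxr) hs) h'
      · rw [IsScalarTower.algebraMap_apply B R (Localization.AtPrime m), IsScalarTower.algebraMap_apply B R (Localization.AtPrime m)]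
        change IsLocalization.mk' _ a _ * algebraMap R _ (r ^ i * (r ^ j * s)) = algebraMap R _ (r ^ j * (r ^ i * a))
        rw [show r ^ i * (r ^ j * s) = r ^ (i + j) * s by ring, show r ^ j * (r ^ i * a) = r ^ (i + j) * a by ring,
          map_mul, map_mul, mul_left_comm, IsLocalization.mk'_spec]
    · intro a b h
      rw [IsScalarTower.algebraMap_apply B R (Localization.AtPrime m), IsScalarTower.algebraMap_apply B R (Localization.AtPrime m)] at h
      obtain ⟨⟨u, hu⟩, hc⟩ := IsLocalization.exists_of_eq (M := m.primeCompl) (S := Localization.AtPrime m) h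
      obtain ⟨i, hi⟩ := hrpow u
      refine ⟨⟨⟨r ^ i * u, hi⟩, fun h0 => ?_⟩, Subtype.ext ?_⟩
      · have h' : x (r ^ i * u) = 0 := h0
        rw [map_mul, map_pow] at h'
        exact mul_ne_zero (pow_ne_zero i hxr) hu h'
      · change r ^ i * u * (a : R) = r ^ i * u * (b : R)
        rw [mul_assoc, mul_assoc, show u * (a : R) = u * (b : R) from hc]
  have hunB : Algebra.IsUnramifiedAt S mB := Algebra.FormallyUnramified.of_equiv
    ((IsLocalization.algEquiv mB.primeCompl (Localization.AtPrime m) (Localization.AtPrime mB)).restrictScalars S)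
  have hinjB : ∀ g : A →ₐ[k] k, GLin.actPt k g (xB.comp (IsScalarTower.toAlgHom k S B)) = xB.comp (IsScalarTower.toAlgHom k S B) →
      GLin.actPt k g xB = xB := fun g hg => by
    rw [hxBy] at hg
    rw [actPt_comp hval, hinj g hg]
  -- generation by the base and the invariants
  obtain ⟨e₂, he₂fix, hxe₂, he₂⟩ := exists_mul_mem_adjoin hG hθB xB hxB mB rfl hunB hinjB
  have he₂R : (e₂ : R) ∈ HopfRep.fixedPts k A R := (mem_fixedPts_sub_iff B hB e₂).1 he₂fix
  let T := Algebra.adjoin S (HopfRep.fixedPts k A R : Set R)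
  let a₁₂ : R := (e₁ : R) * (e₂ : R)
  have ha₁₂ : a₁₂ ∈ HopfRep.fixedPts k A R := (GLin.invariants k A R).mul_mem he₁R he₂R
  have hgen : ∀ f : R, ∃ n, a₁₂ ^ n * f ∈ T := by
    intro f
    obtain ⟨n, hn⟩ := he₁c f
    have hle : Algebra.adjoin S (HopfRep.fixedPts k A B : Set B) ≤ T.comap B.val :=
      Algebra.adjoin_le fun b hb => Algebra.subset_adjoin ((mem_fixedPts_sub_iff B hB b).1 hb)
    have h1 : (e₂ : R) * ((e₁ : R) ^ n * f) ∈ T := hle (he₂ ⟨_, hn⟩)
    refine ⟨n + 1, ?_⟩
    rw [show a₁₂ ^ (n + 1) * f = ((e₁ : R) * (e₂ : R) ^ n) * ((e₂ : R) * ((e₁ : R) ^ n * f)) by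
      simp only [a₁₂, mul_pow, pow_succ]; ring]
    exact mul_mem (mul_mem (Algebra.subset_adjoin he₁R) (pow_mem (Algebra.subset_adjoin he₂R) _)) h1
  refine ⟨a₁₂, ha₁₂, ?_, hgen⟩
  rw [map_mul]
  exact mul_ne_zero (ne_of_eq_of_ne hxe₁ one_ne_zero) (ne_of_eq_of_ne hxe₂ one_ne_zero)

end Groth.ComodLib.Luna
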