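import Groth.Agent.Hopf.Luna.Orbit
import Groth.Agent.GitQuot.Reynolds
import Mathlib.RingTheory.Idempotents

/-!
# Idempotents on a base change of an algebra with coaction of a connected group are invariant
-/

set_option autoImplicit false
set_option linter.unusedSectionVars false

universe u

open TensorProduct

noncomputable section

namespace Groth.ComodLib.Luna

variable {k : Type u} [Field k] [IsAlgClosed k] {A : Type u} [CommRing A] [HopfAlgebra k A] [Algebra.FiniteType k A]

/-- an averaging functional: it sends every vector to an invariant one and fixes the unit -/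
theorem exists_integral_slice (hG : HopfRep.IsLinearlyReductive k A) :
    ∃ α : A →ₗ[k] k, α 1 = 1 ∧ ∀ (V : Type u) [AddCommGroup V] [Module k V] [HopfRep.Comod k A V] (v : V),
      slice α (HopfRep.Comod.coact (k := k) (A := A) v) ∈ HopfRep.fixedPts k A V := by
  obtain ⟨EA, hEA⟩ := GitQuot.exists_reynolds (V := A) (A := A) hG
  refine ⟨Coalgebra.counit (R := k) ∘ₗ EA, ?_, ?_⟩
  · rw [LinearMap.comp_apply, (hEA.fixed 1).2 (Bialgebra.comul_one (R := k) (A := A)), Bialgebra.counit_one]
  · intro V _ _ _ v
    obtain ⟨E, hE⟩ := GitQuot.exists_reynolds (V := V) (A := A) hG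
    suffices h : slice (Coalgebra.counit (R := k) ∘ₗ EA) (HopfRep.Comod.coact (k := k) (A := A) v) = E v by
      rw [h]; exact hE.apply_mem v
    refine sub_eq_zero.1 ((Module.forall_dual_apply_eq_zero_iff k _).1 fun ψ => ?_)
    rw [map_sub, sub_eq_zero, ← apply_lslice]
    change Coalgebra.counit (R := k) (EA (cf (A := A) ψ v)) = _
    have h1 : EA (cf (A := A) ψ v) = cf (A := A) ψ (E v) :=
      LinearMap.congr_fun (hE.natural hG hEA (isComodHom_cf (A := A) ψ)) v
    rw [h1, cf_apply, show HopfRep.Comod.coact (k := k) (A := A) (E v) = E v ⊗ₜ[k] (1 : A) from hE.apply_mem v,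
      lslice_tmul, map_smul, Bialgebra.counit_one, smul_eq_mul, mul_one]

variable {S : Type u} [CommRing S] [Algebra k S] [Algebra.FiniteType k S] [HopfRep.Comod k A S] [GLin.IsCoactAlg k A S]
  {S₀ : Type u} [CommRing S₀] [Algebra k S₀] [Algebra S₀ S] [IsScalarTower k S₀ S]
  {B : Type u} [CommRing B] [Algebra k B] [Algebra.FiniteType k B] [Algebra S₀ B] [IsScalarTower k S₀ B]

/-- idempotents are invariant -/
theorem exists_eq_one_tmul_of_idempotent [IsDomain A] (hG : HopfRep.IsLinearlyReductive k A)
    (hS₀ : (IsScalarTower.toAlgHom k S₀ S).range = GLin.invariants k A S)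
    {ε : S ⊗[S₀] B} (hε : IsIdempotentElem ε) : ∃ b : B, ε = (1 : S) ⊗ₜ[S₀] b := by
  classical
  let T := S ⊗[S₀] B
  -- the coaction
  let iS : S →ₐ[k] T := (Algebra.TensorProduct.includeLeft : S →ₐ[S₀] T).restrictScalars k
  let iB : B →ₐ[k] T := (Algebra.TensorProduct.includeRight : B →ₐ[S₀] T).restrictScalars k
  let ρS : S →ₐ[S₀] T ⊗[k] A :=
    { ((Algebra.TensorProduct.map iS (AlgHom.id k A)).comp (GLin.coactAlgHom k A S)).toRingHom with
      commutes' := fun c => by
        change Algebra.TensorProduct.map iS (AlgHom.id k A) (HopfRep.Comod.coact (k := k) (A := A) (algebraMap S₀ S c)) =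
          algebraMap S₀ T c ⊗ₜ[k] (1 : A)
        rw [show HopfRep.Comod.coact (k := k) (A := A) (algebraMap S₀ S c) = algebraMap S₀ S c ⊗ₜ[k] (1 : A) from
          hS₀.le ⟨c, rfl⟩]
        rfl }
  let ρB : B →ₐ[S₀] T ⊗[k] A :=
    { (Algebra.TensorProduct.includeLeftRingHom : T →+* T ⊗[k] A).comp iB.toRingHom with
      commutes' := fun c => by
        change ((1 : S) ⊗ₜ[S₀] algebraMap S₀ B c) ⊗ₜ[k] (1 : A) = algebraMap S₀ T c ⊗ₜ[k] (1 : A)
        exact congrArg (· ⊗ₜ[k] (1 : A)) ((Algebra.TensorProduct.includeRight : B →ₐ[S₀] T).commutes c) }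
  let ρ := Algebra.TensorProduct.productMap ρS ρB
  have hρ : ∀ s b, ρ (s ⊗ₜ b) =
      Algebra.TensorProduct.map iS (AlgHom.id k A) (HopfRep.Comod.coact (k := k) (A := A) s) * (iB b ⊗ₜ[k] 1) :=
    fun s b => rfl
  have hslice : ∀ (φ : A →ₗ[k] k) (s : S) (b : B),
      slice φ (ρ (s ⊗ₜ b)) = (slice φ (HopfRep.Comod.coact (k := k) (A := A) s)) ⊗ₜ[S₀] b := by
    intro φ s b
    rw [hρ]
    induction HopfRep.Comod.coact (k := k) (A := A) s using TensorProduct.induction_on with
    | zero => simp
    | tmul p a =>
      rw [Algebra.TensorProduct.map_tmul, Algebra.TensorProduct.tmul_mul_tmul, slice_tmul, slice_tmul]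
      change φ (a * 1) • ((p ⊗ₜ[S₀] (1 : B)) * ((1 : S) ⊗ₜ[S₀] b)) = _
      rw [Algebra.TensorProduct.tmul_mul_tmul, mul_one, one_mul, mul_one, TensorProduct.smul_tmul']
    | add p q hp hq => simp only [map_add, add_mul, TensorProduct.add_tmul, hp, hq]
  -- the idempotent is fixed
  have : Algebra.FiniteType k T := by
    have : Algebra.FiniteType S₀ B := Algebra.FiniteType.of_restrictScalars_finiteType k S₀ B
    exact Algebra.FiniteType.trans (S := S) inferInstance inferInstance
  have : Algebra.FiniteType k (T ⊗[k] A) := Algebra.FiniteType.trans (S := T) inferInstance inferInstance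
  have hfix : ρ ε = ε ⊗ₜ[k] (1 : A) := by
    refine eq_of_isNilpotent_sub_of_isIdempotentElem (hε.map ρ)
      (hε.map (Algebra.TensorProduct.includeLeftRingHom : T →+* T ⊗[k] A)) ?_
    refine GitQuot.isNilpotent_of_forall_point (k := k) _ fun p => ?_
    let z : T →ₐ[k] k := p.comp Algebra.TensorProduct.includeLeft
    let g : A →ₐ[k] k := p.comp Algebra.TensorProduct.includeRight
    let o : T →ₐ[k] A := (Algebra.TensorProduct.lid k A).toAlgHom.comp
      ((Algebra.TensorProduct.map z (AlgHom.id k A)).comp (ρ.restrictScalars k))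
    have hp : ∀ w : T, p (ρ w) = g (o w) := by
      intro w
      change p (ρ w) = g ((Algebra.TensorProduct.lid k A) (Algebra.TensorProduct.map z (AlgHom.id k A) (ρ w)))
      induction ρ w using TensorProduct.induction_on with
      | zero => simp
      | tmul t a =>
        simp only [Algebra.TensorProduct.map_tmul, AlgHom.coe_id, id_eq, Algebra.TensorProduct.lid_tmul, map_smul,
          smul_eq_mul, z, g, AlgHom.comp_apply, Algebra.TensorProduct.includeLeft_apply,
          Algebra.TensorProduct.includeRight_apply]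
        rw [← map_mul, Algebra.TensorProduct.tmul_mul_tmul, mul_one, one_mul]
      | add a b ha hb => simp only [map_add, ha, hb]
    have hcounit : ∀ w : T, Coalgebra.counit (R := k) (o w) = z w := by
      intro w
      have e : ∀ u : T ⊗[k] A, Coalgebra.counit (R := k) ((Algebra.TensorProduct.lid k A)
          (Algebra.TensorProduct.map z (AlgHom.id k A) u)) = z (slice (Coalgebra.counit (R := k)) u) := by
        intro u
        induction u using TensorProduct.induction_on with
        | zero => simp
        | tmul t a => simp [mul_comm]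
        | add a b ha hb => simp only [map_add, ha, hb]
      change Coalgebra.counit (R := k) ((Algebra.TensorProduct.lid k A)
        (Algebra.TensorProduct.map z (AlgHom.id k A) (ρ w))) = z w
      rw [e]
      congr 1
      induction w using TensorProduct.induction_on with
      | zero => simp
      | tmul s b =>
        rw [hslice]
        exact congrArg (· ⊗ₜ[S₀] b) (op_counit s)
      | add a b ha hb => simp only [map_add, ha, hb]
    have hz : g (o ε) = z ε := by
      rw [← hcounit]
      rcases IsIdempotentElem.iff_eq_zero_or_one.1 (hε.map o) with h | h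
      · rw [h, map_zero, map_zero]
      · rw [h, map_one, Bialgebra.counit_one]
    rw [map_sub, hp, hz]
    exact sub_self _
  -- average
  obtain ⟨α, hα1, hα⟩ := exists_integral_slice (A := A) hG
  have key : ∀ w : T, ∃ b : B, slice α (ρ w) = (1 : S) ⊗ₜ[S₀] b := by
    intro w
    induction w using TensorProduct.induction_on with
    | zero => exact ⟨0, by simp⟩
    | tmul s b =>
      obtain ⟨t, ht⟩ := hS₀.ge (hα S s)
      refine ⟨t • b, ?_⟩
      rw [hslice, ← TensorProduct.smul_tmul]
      refine congrArg (· ⊗ₜ[S₀] b) ?_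
      rw [← ht, Algebra.smul_def, mul_one]
      rfl
    | add a b ha hb =>
      obtain ⟨p, hp⟩ := ha
      obtain ⟨q, hq⟩ := hb
      exact ⟨p + q, by rw [map_add, map_add, hp, hq, TensorProduct.tmul_add]⟩
  obtain ⟨b, hb⟩ := key ε
  exact ⟨b, by rw [← hb, hfix, slice_tmul, hα1, one_smul]⟩

end Groth.ComodLib.Luna
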