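import Groth.Agent.Hopf.OrbitFlat
import Groth.Agent.Hopf.SmoothHopf
import Groth.Agent.Calg4.SmoothRegularField
import Groth.Agent.Calg4.RegularFlat
import Mathlib.RingTheory.Ideal.Quotient.Operations
import Mathlib.RingTheory.Smooth.Locus
import Mathlib.FieldTheory.Perfect

/-!
# Smoothness of a closed orbit
-/

set_option autoImplicit false

universe u

noncomputable section

namespace Groth.ComodLib.Luna

theorem smooth_orbitQuot {k : Type u} [Field k] [IsAlgClosed k] [CharZero k] {A : Type u} [CommRing A] [IsDomain A]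
    [HopfAlgebra k A] [Algebra.FiniteType k A] {R : Type u} [CommRing R] [Algebra k R] [Algebra.FiniteType k R]
    [HopfRep.Comod k A R] [GLin.IsCoactAlg k A R] (x : R →ₐ[k] k) (hx : GLin.IsClosedOrbit k A x) :
    Algebra.Smooth k (R ⧸ RingHom.ker (GLin.orbitHom k A x)) := by
  let φ := GLin.orbitHom k A x
  let B := φ.range
  have := faithfullyFlat_orbitRange (A := A) x hx
  have : Algebra.Smooth k A := smooth_of_hopfAlgebra_charZero k A
  have hBft : Algebra.FiniteType k B :=
    Algebra.FiniteType.of_surjective φ.rangeRestrict φ.rangeRestrict_surjective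
  have : Algebra.FinitePresentation k B := Algebra.FinitePresentation.of_finiteType.mp hBft
  have : Algebra.Smooth k B := by
    refine ⟨Algebra.smoothLocus_eq_univ_iff.mp (Set.eq_univ_iff_forall.2 fun p => ?_), ‹_›⟩
    obtain ⟨⟨q, hq⟩, hqp⟩ := PrimeSpectrum.comap_surjective_of_faithfullyFlat (A := B) (B := A) p
    subst hqp
    have : IsNoetherianRing B := Algebra.FiniteType.isNoetherianRing k B
    have : IsNoetherianRing A := Algebra.FiniteType.isNoetherianRing k A
    have : IsRegularLocalRing (Localization.AtPrime q) :=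
      Groth.Calg4.isRegularLocalRing_of_isSmoothAt (k := k) q
    have : IsRegularLocalRing (Localization.AtPrime (q.comap (algebraMap B A))) :=
      Groth.Ega4Algebra1.isRegularLocalRing_comap_of_flat B A q
    have : Algebra.EssFiniteType k (q.comap (algebraMap B A)).ResidueField := Algebra.EssFiniteType.comp k B _
    have : Algebra.FormallySmooth k (q.comap (algebraMap B A)).ResidueField :=
      Algebra.FormallySmooth.of_perfectField
    exact Groth.Calg4.isSmoothAt_of_isRegularLocalRing (q.comap (algebraMap B A))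
  have hker : ∀ r, r ∈ RingHom.ker φ ↔ φ.rangeRestrict r = 0 := fun r =>
    ⟨fun h => Subtype.ext h, fun h => congrArg Subtype.val h⟩
  let ψ : (R ⧸ RingHom.ker φ) →ₐ[k] B := Ideal.Quotient.liftₐ _ φ.rangeRestrict fun r hr => (hker r).1 hr
  have hψ : Function.Bijective ψ := by
    refine ⟨(injective_iff_map_eq_zero ψ).2 fun a ha => ?_, fun b => ?_⟩
    · obtain ⟨r, rfl⟩ := Ideal.Quotient.mk_surjective a
      exact Ideal.Quotient.eq_zero_iff_mem.2 ((hker r).2 ha)
    · obtain ⟨r, rfl⟩ := φ.rangeRestrict_surjective b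
      exact ⟨Ideal.Quotient.mk _ r, rfl⟩
  exact Algebra.Smooth.of_equiv (AlgEquiv.ofBijective ψ hψ).symm

end Groth.ComodLib.Luna
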