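import Groth.Agent.Hopf.CST.Linearize

/-!
# An equivariant closed embedding into a linear representation
-/

set_option autoImplicit false
set_option linter.unusedSectionVars false

universe u

open MvPolynomial TensorProduct

noncomputable section

namespace Groth.ComodLib.Luna

variable {k : Type u} [Field k] {A : Type u} [CommRing A] [HopfAlgebra k A]
  {R : Type u} [CommRing R] [Algebra k R] [HopfRep.Comod k A R] [GLin.IsCoactAlg k A R]

variable (k A R) in
/-- every algebra of finite type with coaction is an equivariant quotient of a linear one -/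
theorem exists_poly_cover [Algebra.FiniteType k R] :
    ∃ (ι : Type u) (_ : Fintype ι) (_ : DecidableEq ι) (M : Matrix ι ι A) (hM : IsComultMat k M)
      (φ : MvPolynomial ι k →ₐ[k] R), Function.Surjective φ ∧
      @Hoch.IsComodHom k _ A _ _ _ (MvPolynomial ι k) _ _ (CST.matComod M hM) R _ _ _ φ.toLinearMap := by
  classical
  obtain ⟨s, hs⟩ := (Algebra.FiniteType.out : (⊤ : Subalgebra k R).FG)
  let C : Submodule k R := ⨆ a : (s : Set R), gen (k := k) A (a.1 : R)
  have hC : HopfRep.IsSubcomod (k := k) (A := A) C := isSubcomod_iSup _ fun a => isSubcomod_gen _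
  have hCfin : Module.Finite k C :=
    Module.Finite.iff_fg.2 (Submodule.fg_iSup _ fun a => Module.Finite.iff_fg.1 (finite_gen (a.1 : R)))
  let cC : HopfRep.Comod k A C := ComodSub.Comod.restr inferInstance C hC
  have hCsub : Hoch.IsComodHom A C.subtype := ComodSub.isComodHom_subtype _ C hC
  let b := Module.finBasis k C
  let ι := ULift.{u} (Fin (Module.finrank k C))
  let M : Matrix ι ι A := Matrix.reindex Equiv.ulift.symm Equiv.ulift.symm (cfMat (A := A) b)
  have hM : IsComultMat k M :=
    ((isComultMat_iff _).2 ⟨comul_cfMat b, counit_cfMat b⟩).reindex _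
  let cP : HopfRep.Comod k A (MvPolynomial ι k) := CST.matComod M hM
  let β : ι → R := fun i => (b i.down : C).1
  let φ : MvPolynomial ι k →ₐ[k] R := MvPolynomial.aeval β
  have hφX : ∀ i, φ (X i) = β i := fun i => aeval_X β i
  have hφhom : Hoch.IsComodHom A φ.toLinearMap := by
    have e : (Algebra.TensorProduct.map φ (AlgHom.id k A)).comp (CST.matCoact (k := k) M) =
        (GLin.coactAlgHom k A R).comp φ := by
      refine MvPolynomial.algHom_ext fun i => ?_
      rw [AlgHom.comp_apply, AlgHom.comp_apply, CST.matCoact_X, hφX, map_sum, GLin.coactAlgHom_apply]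
      have h := LinearMap.congr_fun hCsub (b i.down)
      simp only [LinearMap.comp_apply, coact_basis b i.down, map_sum, LinearMap.rTensor_tmul] at h
      rw [show HopfRep.Comod.coact (k := k) (A := A) (β i) = _ from h]
      refine Fintype.sum_equiv Equiv.ulift _ _ fun j => ?_
      rw [Algebra.TensorProduct.map_tmul, hφX]
      rfl
    refine LinearMap.ext fun p => (DFunLike.congr_fun e p).symm.trans ?_
    change Algebra.TensorProduct.map φ (AlgHom.id k A) (cP.coact p) = LinearMap.rTensor A φ.toLinearMap (cP.coact p)
    generalize cP.coact p = z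
    induction z using TensorProduct.induction_on with
    | zero => simp
    | tmul a b => simp
    | add a b ha hb => simp only [map_add, ha, hb]
  refine ⟨ι, inferInstance, inferInstance, M, hM, φ, ?_, hφhom⟩
  rw [← AlgHom.range_eq_top, eq_top_iff, ← hs, Algebra.adjoin_le_iff]
  intro a ha
  have hmem : a ∈ C := Submodule.mem_iSup_of_mem (⟨a, ha⟩ : (s : Set R)) (mem_gen_self a)
  have e : a = ∑ i : ι, b.repr ⟨a, hmem⟩ i.down • β i := by
    have h := congrArg Subtype.val (b.sum_repr ⟨a, hmem⟩).symm
    simp only [Submodule.coe_sum, Submodule.coe_smul] at h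
    exact h.trans (Fintype.sum_equiv Equiv.ulift _ _ fun i => rfl).symm
  rw [e]
  exact sum_mem fun i _ => Subalgebra.smul_mem φ.range ((AlgHom.mem_range φ).2 ⟨X i, hφX i⟩) _

end Groth.ComodLib.Luna
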