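import Mathlib.RingTheory.Flat.Basic
import Mathlib.LinearAlgebra.TensorProduct.Tower

/-!
# Flatness descends along split extensions of rings
-/

set_option autoImplicit false

universe u

open TensorProduct

noncomputable section

namespace Groth.ComodLib.Luna

theorem ker_aux {S P X Y T : Type u} [CommRing S] [AddCommGroup P] [Module S P] [Module.Flat S P] [AddCommGroup X]
    [AddCommGroup Y] [Module S X] [Module S Y] [AddCommGroup T] (F : X →ₗ[S] Y) (Φ : P ⊗[S] X →+ T)
    (hΦ : ∀ p n, F n = 0 → Φ (p ⊗ₜ n) = 0) (z : P ⊗[S] X) (hz : F.lTensor P z = 0) : Φ z = 0 := by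
  obtain ⟨q, rfl⟩ := (Module.Flat.lTensor_exact P (LinearMap.exact_subtype_ker_map F) z).1 hz
  clear hz
  induction q using TensorProduct.induction_on with
  | zero => simp
  | add a b ha hb => rw [map_add, map_add, ha, hb, add_zero]
  | tmul p n => rw [LinearMap.lTensor_tmul]; exact hΦ _ _ n.2

/-- if `R → S` is split as a map of `R`-modules and `S ⊗ M` is flat over `S` then `M` is flat over `R` -/
theorem flat_of_split {R S : Type u} [CommRing R] [CommRing S] [Algebra R S]
    (E : S →ₗ[R] R) (hE : E 1 = 1) (M : Type u) [AddCommGroup M] [Module R M]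
    [Module.Flat S (S ⊗[R] M)] : Module.Flat R M := by
  rw [Module.Flat.iff_lTensor_preserves_injective_linearMap]
  intro N N' _ _ _ _ f hf
  let P := S ⊗[R] M
  let F := f.baseChange S
  let ε : ∀ (V : Type u) [AddCommGroup V] [Module R V], S ⊗[R] V →ₗ[R] V := fun V _ _ =>
    (TensorProduct.lid R V).toLinearMap ∘ₗ E.rTensor V
  have hnat : ∀ z : S ⊗[R] N, ε N' (F z) = f (ε N z) := by
    intro z
    induction z using TensorProduct.induction_on with
    | zero => simp
    | tmul s n => simp [ε, F]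
    | add a b ha hb => simp only [map_add, ha, hb]
  let D := TensorProduct.AlgebraTensorModule.distribBaseChange R S M N
  let Θ : (P ⊗[S] (S ⊗[R] N)) →ₗ[R] M ⊗[R] N := ε (M ⊗[R] N) ∘ₗ (D.symm.toLinearMap.restrictScalars R)
  have hD : ∀ (s s' : S) (m : M) (n : N), D.symm ((s ⊗ₜ[R] m) ⊗ₜ[S] (s' ⊗ₜ[R] n)) = (s * s') ⊗ₜ[R] (m ⊗ₜ[R] n) := by
    intro s s' m n
    exact TensorProduct.AlgebraTensorModule.distribBaseChange_symm_tmul R S m n s s'
  have hΘ : ∀ (s : S) (m : M) (n : S ⊗[R] N), Θ ((s ⊗ₜ[R] m) ⊗ₜ[S] n) = m ⊗ₜ[R] ε N (s • n) := by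
    intro s m n
    induction n using TensorProduct.induction_on with
    | zero => simp
    | tmul s' n => simp [Θ, hD, ε, TensorProduct.smul_tmul']
    | add a b ha hb => simp only [TensorProduct.tmul_add, map_add, smul_add, ha, hb]
  rw [injective_iff_map_eq_zero]
  intro l hl
  let ι : M ⊗[R] N →ₗ[R] P ⊗[S] (S ⊗[R] N) :=
    (D.toLinearMap.restrictScalars R) ∘ₗ (TensorProduct.mk R S (M ⊗[R] N) 1)
  have hιΘ : Θ (ι l) = l := by simp [Θ, ι, ε, hE]
  have hι0 : F.lTensor P (ι l) = 0 := by
    have key : ∀ l : M ⊗[R] N, F.lTensor P (ι l) =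
        TensorProduct.AlgebraTensorModule.distribBaseChange R S M N' ((1 : S) ⊗ₜ[R] (f.lTensor M l)) := by
      intro l
      induction l using TensorProduct.induction_on with
      | zero => simp
      | tmul m n => simp [ι, D, F]
      | add a b ha hb => simp only [map_add, TensorProduct.tmul_add, ha, hb]
    rw [key, hl, TensorProduct.tmul_zero, map_zero]
  rw [← hιΘ]
  refine ker_aux F Θ.toAddMonoidHom (fun p n hn => ?_) (ι l) hι0
  change Θ (p ⊗ₜ n) = 0
  induction p using TensorProduct.induction_on with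
  | zero => simp
  | add a b ha hb => rw [TensorProduct.add_tmul, map_add, ha, hb, add_zero]
  | tmul s m =>
    rw [hΘ]
    have h0 : f (ε N (s • n)) = 0 := by
      rw [← hnat, map_smul, hn, smul_zero, map_zero]
    rw [hf (h0.trans (map_zero f).symm), TensorProduct.tmul_zero]

end Groth.ComodLib.Luna
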