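import Groth.Agent.Hopf.Luna.Stable
import Groth.Agent.Hopf.Luna.NormalFibre
import Groth.Agent.Hopf.Reductive
import Groth.Agent.Hopf.OrbitFlat
import Groth.Agent.Hopf.CharFun
import Mathlib.RingTheory.Smooth.Basic

/-!
# An equivariant splitting of the tangent bundle of a smooth variety in a representation
-/

set_option autoImplicit false
set_option linter.unusedSectionVars false

universe u

open TensorProduct WithConv

noncomputable section

namespace Groth.ComodLib.Luna

variable {k : Type u} [Field k] {B : Type u} [CommRing B] [Algebra k B] {ι : Type u} [Fintype ι]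

/-- a module twisted by an endomorphism of the base -/
@[nolint unusedArguments]
def Twist (_φ : B →ₐ[k] B) (V : Type u) : Type u := V

instance (φ : B →ₐ[k] B) (V : Type u) [AddCommGroup V] : AddCommGroup (Twist φ V) := inferInstanceAs (AddCommGroup V)
instance (φ : B →ₐ[k] B) (V : Type u) [AddCommGroup V] [Module k V] : Module k (Twist φ V) :=
  inferInstanceAs (Module k V)
instance (φ : B →ₐ[k] B) (V : Type u) [AddCommGroup V] [Module B V] : Module B (Twist φ V) :=
  Module.compHom V φ.toRingHom

instance (φ : B →ₐ[k] B) (V : Type u) [AddCommGroup V] [Module k V] [Module B V] [IsScalarTower k B V] :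
    IsScalarTower k B (Twist φ V) :=
  ⟨fun c b v => by
    let w : V := v
    change φ (c • b) • w = c • φ b • w
    rw [map_smul, smul_assoc]⟩

/-- functoriality of the defining identity -/
theorem D_map_eq {xb : ι → B} {τ : ι → Derivation k B B} (hgen : Algebra.adjoin k (Set.range xb) = ⊤)
    (hD : ∀ l, KaehlerDifferential.D k B (xb l) = ∑ i, τ i (xb l) • KaehlerDifferential.D k B (xb i))
    (φ : B →ₐ[k] B) (b : B) :
    KaehlerDifferential.D k B (φ b) = ∑ i, φ (τ i b) • KaehlerDifferential.D k B (φ (xb i)) := by
  let L : B →ₗ[k] Twist φ (Ω[B⁄k]) := (KaehlerDifferential.D k B).toLinearMap ∘ₗ φ.toLinearMap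
  let δ : Derivation k B (Twist φ (Ω[B⁄k])) := Derivation.mk' L fun a c => by
    change KaehlerDifferential.D k B (φ (a * c)) =
      φ a • KaehlerDifferential.D k B (φ c) + φ c • KaehlerDifferential.D k B (φ a)
    rw [map_mul, Derivation.leibniz]
  classical
  exact derivation_eq_sum hgen hD δ b

theorem span_D_eq_top {xb : ι → B} (hgen : Algebra.adjoin k (Set.range xb) = ⊤) :
    Submodule.span B (Set.range fun i => KaehlerDifferential.D k B (xb i)) = ⊤ := by
  rw [eq_top_iff, ← KaehlerDifferential.span_range_derivation, Submodule.span_le]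
  rintro _ ⟨b, rfl⟩
  have hb : b ∈ Algebra.adjoin k (Set.range xb) := hgen ▸ Algebra.mem_top
  induction hb using Algebra.adjoin_induction with
  | mem x hx => obtain ⟨i, rfl⟩ := hx; exact Submodule.subset_span ⟨i, rfl⟩
  | algebraMap c => rw [Derivation.map_algebraMap]; exact zero_mem _
  | add a c _ _ ha hc => rw [map_add]; exact add_mem ha hc
  | mul a c _ _ ha hc => rw [Derivation.leibniz]; exact add_mem (Submodule.smul_mem _ _ hc) (Submodule.smul_mem _ _ ha)

/-- a splitting of the cotangent sequence at generators -/
theorem exists_splitting [DecidableEq ι] [Algebra.FormallySmooth k B] (xb : ι → B)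
    (hgen : Algebra.adjoin k (Set.range xb) = ⊤) :
    ∃ τ : ι → Derivation k B B,
      ∀ l, KaehlerDifferential.D k B (xb l) = ∑ i, τ i (xb l) • KaehlerDifferential.D k B (xb i) := by
  obtain ⟨s, hs⟩ := Module.projective_lifting_property
    (Fintype.linearCombination B fun i => KaehlerDifferential.D k B (xb i)) (LinearMap.id : Ω[B⁄k] →ₗ[B] Ω[B⁄k])
    (by rw [← LinearMap.range_eq_top, Fintype.range_linearCombination, span_D_eq_top hgen])
  refine ⟨fun i => (LinearMap.proj i ∘ₗ s).compDer (KaehlerDifferential.D k B), fun l => ?_⟩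
  have h := LinearMap.congr_fun hs (KaehlerDifferential.D k B (xb l))
  rw [LinearMap.comp_apply, Fintype.linearCombination_apply, LinearMap.id_apply] at h
  exact h.symm

variable [IsAlgClosed k] [CharZero k] {A : Type u} [CommRing A] [HopfAlgebra k A] [Algebra.FiniteType k A]
  [Algebra.FiniteType k B] [HopfRep.Comod k A B] [GLin.IsCoactAlg k A B]

theorem slice_eq_ev (g : A →ₐ[k] k) (z : B ⊗[k] A) :
    slice g.toLinearMap z = ((Algebra.TensorProduct.rid k k B).toAlgHom.comp
      (Algebra.TensorProduct.map (AlgHom.id k B) g)) z := by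
  induction z using TensorProduct.induction_on with
  | zero => simp
  | tmul a b => simp
  | add a b ha hb => simp only [map_add, ha, hb]

theorem integral_transAlg {α : A →ₗ[k] k}
    (hα : @Hoch.IsComodHom k _ A _ _ _ A _ _ _ k _ _ (HopfRep.Comod.trivial k A k) α) (g : A →ₐ[k] k) (a : A) :
    α (transAlg g a) = α a := by
  have h1 : ∀ z : A ⊗[k] A, α (slice g.toLinearMap z) = slice g.toLinearMap (α.rTensor A z) := fun z =>
    (slice_rTensor g.toLinearMap α z).symm
  rw [transAlg_apply, op_apply]
  have h := LinearMap.congr_fun hα a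
  change α a ⊗ₜ[k] (1 : A) = α.rTensor A (Coalgebra.comul (R := k) a) at h
  refine (h1 _).trans ?_
  change slice _ (α.rTensor A (Coalgebra.comul (R := k) a)) = _
  rw [← h, slice_tmul]
  simp

theorem slice_pi_single [DecidableEq ι] (φ : A →ₗ[k] k) (F : ι → B ⊗[k] A) :
    slice φ (∑ m, (LinearMap.single k (fun _ : ι => B) m).rTensor A (F m)) = fun m => slice φ (F m) := by
  rw [map_sum]
  simp only [slice_rTensor]
  funext p
  simp [Finset.sum_apply, Pi.single_apply]

/-- the splitting can be chosen equivariant -/
theorem exists_equivariant_splitting [DecidableEq ι] [Algebra.FormallySmooth k B]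
    (hG : HopfRep.IsLinearlyReductive k A) (xb : ι → B) (hgen : Algebra.adjoin k (Set.range xb) = ⊤)
    (M : Matrix ι ι A) (hM : IsComultMat k M)
    (hxb : ∀ i, HopfRep.Comod.coact (k := k) (A := A) (xb i) = ∑ j, xb j ⊗ₜ[k] M j i) :
    ∃ τ : ι → Derivation k B B,
      (∀ l, KaehlerDifferential.D k B (xb l) = ∑ i, τ i (xb l) • KaehlerDifferential.D k B (xb i)) ∧
      ∀ (g : A →ₐ[k] k) (l j : ι), ∑ i, g (M j i) • actAlg g (τ i (xb l)) = ∑ m, g (M m l) • τ j (xb m) := by
  classical
  obtain ⟨τ₀, hD₀⟩ := exists_splitting xb hgen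
  obtain ⟨α, hα, hα1⟩ := exists_integral_of_crit (fixedCrit_of_isLinearlyReductive hG)
  obtain ⟨hM1, hM2⟩ := (isComultMat_iff M).1 hM
  -- matrices at points
  let ak : k →+* B := algebraMap k B
  let pM : (A →ₐ[k] k) → Matrix ι ι B := fun g => M.map fun a => ak (g a)
  have hpM : ∀ g i j, pM g i j = algebraMap k B (g (M i j)) := fun _ _ _ => rfl
  have hmul : ∀ g h : A →ₐ[k] k, pM (toConv g * toConv h : WithConv (A →ₐ[k] k)).ofConv = pM g * pM h := by
    intro g h
    ext i j
    have e : (toConv g * toConv h : WithConv (A →ₐ[k] k)) (M i j) = ∑ l, g (M i l) * h (M l j) := by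
      rw [AlgHom.convMul_apply, hM1, map_sum]
      simp
    simp only [hpM, Matrix.mul_apply, ← map_mul, ← map_sum]
    exact congrArg _ e
  have hinv : ∀ g : A →ₐ[k] k, pM g * pM (GitQuot.pointInv g) = 1 ∧ pM (GitQuot.pointInv g) * pM g = 1 := by
    intro g
    have key : pM g * pM (GitQuot.pointInv g) = 1 := by
      ext i j
      let ℛ : Coalgebra.Repr k (M i j) ι :=
        { index := Finset.univ, left := fun l => M i l, right := fun l => M l j, eq := (hM1 i j).symm }
      have h := congrArg g (HopfAlgebra.sum_mul_antipode_eq_smul ℛ)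
      simp only [map_sum, map_mul, map_smul, map_one, smul_eq_mul, mul_one, hM2, ℛ] at h
      simp only [Matrix.mul_apply, hpM, GitQuot.pointInv, AlgHom.comp_apply, HopfAlgebra.antipodeAlgHom_apply]
      rw [Matrix.one_apply, show (if i = j then (1 : B) else 0) = algebraMap k B (if i = j then 1 else 0) by
        split_ifs <;> simp, ← h, map_sum]
      exact Finset.sum_congr rfl fun x _ => (map_mul _ _ _).symm
    exact ⟨key, mul_eq_one_comm.1 key⟩
  have hactx : ∀ (g : A →ₐ[k] k) i, actAlg g (xb i) = ∑ j, (pM g) j i • xb j := by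
    intro g i
    rw [actAlg_apply, op_apply, hxb, map_sum]
    simp [hpM, Algebra.smul_def]
  let P : Matrix ι ι B := projMat xb τ₀
  let iR : A →ₐ[k] B ⊗[k] A := Algebra.TensorProduct.includeRight
  let ρS : B →ₐ[k] B ⊗[k] A :=
    (Algebra.TensorProduct.map (AlgHom.id k B) (HopfAlgebra.antipodeAlgHom k A)).comp (GLin.coactAlgHom k A B)
  let F : Matrix ι ι (B ⊗[k] A) :=
    (M.map iR).transpose * P.map ρS * (M.map fun a => iR (HopfAlgebra.antipodeAlgHom k A a)).transpose
  let Q : (A →ₐ[k] k) → Matrix ι ι B := fun g =>
    (pM g).transpose * P.map (actAlg (GitQuot.pointInv g)) * (pM (GitQuot.pointInv g)).transpose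
  have hFQ : ∀ g : A →ₐ[k] k, ∀ m j, slice g.toLinearMap (F m j) = Q g m j := by
    intro g m j
    let e := (Algebra.TensorProduct.rid k k B).toAlgHom.comp (Algebra.TensorProduct.map (AlgHom.id k B) g)
    have h1 : ∀ a, e (iR a) = algebraMap k B (g a) := fun a => by simp [e, iR, Algebra.algebraMap_eq_smul_one]
    have h2 : ∀ b, e (ρS b) = actAlg (GitQuot.pointInv g) b := fun b => by
      rw [actAlg_apply, op_apply]
      simp only [e, ρS, AlgHom.comp_apply, GLin.coactAlgHom_apply]
      induction HopfRep.Comod.coact (k := k) (A := A) b using TensorProduct.induction_on with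
      | zero => simp
      | add p q hp hq => simp only [map_add, hp, hq]
      | tmul p q => simp [GitQuot.pointInv]
    have hmap : F.map e = Q g := by
      simp only [F, Q, Matrix.map_mul, ← Matrix.transpose_map, Matrix.map_map, Function.comp_def, h1, h2]
      rfl
    rw [slice_eq_ev, ← hmap]
    rfl
  let P' : Matrix ι ι B := Matrix.of fun m j => slice α (F m j)
  -- the columns are tangent
  let Λ : Derivation k B B →ₗ[k] (ι → B) :=
    { toFun := fun d m => d (xb m), map_add' := fun _ _ => rfl, map_smul' := fun _ _ => rfl }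
  have htan : ∀ j, ∃ d : Derivation k B B, ∀ m, d (xb m) = P' m j := by
    intro j
    have hmem : (fun m => P' m j) ∈ LinearMap.range Λ := by
      have h := slice_mem_of_points (LinearMap.range Λ)
        (∑ m, (LinearMap.single k (fun _ : ι => B) m).rTensor A (F m j)) (fun g => ?_) α
      · rw [slice_pi_single] at h; exact h
      · rw [slice_pi_single]
        let φ := actAlg (R := B) (GitQuot.pointInv g)
        let ψ := actAlg (R := B) g
        have hφψ : ∀ c, φ (ψ c) = c := fun c =>
          (actAlg_bijective g).1 (actAlg_actAlg_inv g (ψ c))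
        let d : ι → Derivation k B B := fun i => Derivation.mk' (φ.toLinearMap ∘ₗ (τ₀ i).toLinearMap ∘ₗ ψ.toLinearMap)
          fun a c => by
            simp only [LinearMap.comp_apply, AlgHom.toLinearMap_apply, Derivation.coeFn_coe, map_mul,
              Derivation.leibniz, smul_eq_mul, map_add, hφψ]
        refine ⟨∑ i, pM (GitQuot.pointInv g) j i • d i, funext fun m => ?_⟩
        change (∑ i, pM (GitQuot.pointInv g) j i • d i) (xb m) = slice g.toLinearMap (F m j)
        rw [hFQ, derivation_sum_apply]
        simp only [Derivation.smul_apply, smul_eq_mul]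
        change ∑ i, pM _ j i * φ (τ₀ i (ψ (xb m))) = _
        simp only [Q, Matrix.mul_apply, Matrix.transpose_apply, Matrix.map_apply]
        refine Finset.sum_congr rfl fun i _ => ?_
        rw [mul_comm]
        congr 1
        simp only [ψ, hactx, map_sum, P, projMat, Matrix.of_apply]
        refine Finset.sum_congr rfl fun l _ => ?_
        rw [hpM, Algebra.algebraMap_eq_smul_one, smul_assoc, one_smul, Derivation.map_smul, map_smul, smul_one_mul]
    obtain ⟨d, hd⟩ := hmem
    exact ⟨d, congrFun hd⟩
  choose τ hτ using htan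
  refine ⟨τ, fun l => ?_, fun h l j => ?_⟩
  · -- the splitting
    simp only [hτ]
    let v : ι → Ω[B⁄k] := fun i => KaehlerDifferential.D k B (xb i)
    let z : Ω[B⁄k] ⊗[k] A :=
      (∑ i, ((LinearMap.toSpanSingleton B _ (v i)).restrictScalars k).rTensor A (F l i)) - v l ⊗ₜ[k] (1 : A)
    have hz : ∀ φ : A →ₗ[k] k, slice φ z = (∑ i, slice φ (F l i) • v i) - φ 1 • v l := fun φ => by
      simp [z, map_sum, slice_rTensor]
    have h0 : slice α z = 0 := by
      refine (Submodule.mem_bot k).1 (slice_mem_of_points ⊥ z (fun g => ?_) α)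
      rw [Submodule.mem_bot, hz, AlgHom.toLinearMap_apply, map_one, one_smul, sub_eq_zero]
      simp only [hFQ, Q]
      let φ := actAlg (R := B) (GitQuot.pointInv g)
      have hvec : ∀ (X Y : Matrix ι ι B) m, ∑ i, (X * Y) m i • v i = ∑ p, X m p • ∑ i, Y p i • v i := by
        intro X Y m
        simp only [Matrix.mul_apply, Finset.sum_smul, Finset.smul_sum, mul_smul]
        exact Finset.sum_comm
      have hφ : ∀ i, ∑ p, (pM (GitQuot.pointInv g)).transpose i p • v p = KaehlerDifferential.D k B (φ (xb i)) := by
        intro i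
        simp only [φ, hactx, map_sum, v, Matrix.transpose_apply, hpM, algebraMap_smul, Derivation.map_smul]
      rw [Matrix.mul_assoc, hvec]
      simp only [hvec, Matrix.map_apply, P, projMat, Matrix.of_apply]
      rw [Finset.sum_congr rfl fun x _ => congrArg ((pM g).transpose l x • ·)
        ((Finset.sum_congr rfl fun i _ => congrArg (φ (τ₀ i (xb x)) • ·) (hφ i)).trans
          ((D_map_eq hgen hD₀ φ (xb x)).symm.trans (hφ x).symm)),
        ← hvec, ← Matrix.transpose_mul, (hinv g).2, Matrix.transpose_one]
      simp [Matrix.one_apply, ite_smul]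
    rw [hz, hα1, one_smul, sub_eq_zero] at h0
    exact h0.symm
  · -- equivariance
    simp only [hτ]
    let h' := GitQuot.pointInv h
    let z : B ⊗[k] A := (∑ i, h (M j i) • (actAlg (R := B) h).toLinearMap.rTensor A (F l i)) -
      ∑ m, h (M m l) • (transAlg h').toLinearMap.lTensor B (F m j)
    have h0 : slice α z = 0 := by
      refine (Submodule.mem_bot k).1 (slice_mem_of_points ⊥ z (fun g => ?_) α)
      rw [Submodule.mem_bot]
      let g2 : A →ₐ[k] k := (toConv g * toConv h' : WithConv (A →ₐ[k] k)).ofConv
      have hg2 : g.toLinearMap ∘ₗ (transAlg h').toLinearMap = g2.toLinearMap :=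
        LinearMap.ext fun a => apply_transAlg g h' a
      simp only [z, map_sub, map_sum, map_smul, slice_rTensor, slice_lTensor, hg2, hFQ, AlgHom.toLinearMap_apply,
        sub_eq_zero]
      have hact2 : ∀ c, actAlg (R := B) g2 c = actAlg g (actAlg h' c) := by
        intro c
        simp only [actAlg_apply]
        have := op_mul (V := B) (toConv g.toLinearMap) (toConv h'.toLinearMap) c
        simp only [WithConv.ofConv_toConv] at this
        rw [← this]
        congr 1
      have hh : ∀ c, actAlg (R := B) h' (actAlg h c) = c := fun c =>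
        (actAlg_bijective h).1 (actAlg_actAlg_inv h (actAlg h c))
      have hφ2 : ∀ c, actAlg (R := B) (GitQuot.pointInv g2) c = actAlg h (actAlg (GitQuot.pointInv g) c) := by
        intro c
        refine (actAlg_bijective g2).1 ?_
        rw [actAlg_actAlg_inv, hact2, hh, actAlg_actAlg_inv]
      have hM2g : pM g2 = pM g * pM h' := hmul g h'
      have hM2i : pM (GitQuot.pointInv g2) = pM h * pM (GitQuot.pointInv g) := by
        refine left_inv_eq_right_inv (hinv g2).2 ?_
        rw [hM2g, Matrix.mul_assoc, ← Matrix.mul_assoc (pM h'), (hinv h).2, Matrix.one_mul, (hinv g).1]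
      have hfixk : ∀ c : k, actAlg (R := B) h (algebraMap k B c) = algebraMap k B c := fun c => AlgHom.commutes _ c
      have hk : ∀ f : A →ₐ[k] k, (pM f).transpose.map (actAlg (R := B) h) = (pM f).transpose := fun f => by
        ext a b; simp [hpM]
      have hH : (pM h).transpose * (pM h').transpose = 1 := by
        rw [← Matrix.transpose_mul, (hinv h).2, Matrix.transpose_one]
      have e : (Q g).map (actAlg (R := B) h) * (pM h).transpose = (pM h).transpose * Q g2 := by
        simp only [Q, Matrix.map_mul, hk, hM2g, hM2i, Matrix.transpose_mul, Matrix.map_map,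
          Function.comp_def, ← hφ2]
        simp only [← Matrix.mul_assoc, hH, Matrix.one_mul]
      have e' := congrFun (congrFun e l) j
      simp only [Matrix.mul_apply, Matrix.transpose_apply, Matrix.map_apply, hpM] at e'
      simp only [Algebra.smul_def]
      refine Eq.trans ?_ (Eq.trans e' ?_)
      · exact Finset.sum_congr rfl fun i _ => mul_comm _ _
      · rfl
    simp only [z, map_sub, map_sum, map_smul, slice_rTensor, slice_lTensor, sub_eq_zero,
      show α ∘ₗ (transAlg h').toLinearMap = α from LinearMap.ext fun a => integral_transAlg hα h' a] at h0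
    exact h0

end Groth.ComodLib.Luna
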