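import Groth.Agent.Hopf.Luna.Generated
import Groth.Agent.Hopf.Luna.Splitting
import Mathlib.RingTheory.Etale.Locus
import Mathlib.RingTheory.RingHom.Etale
import Mathlib.RingTheory.Smooth.Fiber
import Mathlib.RingTheory.Smooth.Flat
import Mathlib.RingTheory.Spectrum.Prime.Chevalley

/-!
# Stabilisers near a closed orbit, given an étale equivariant neighbourhood fibred over the orbit
-/

set_option autoImplicit false
set_option linter.unusedSectionVars false

universe u

open TensorProduct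

noncomputable section

namespace Groth.ComodLib.Luna

variable {k : Type u} [Field k] [IsAlgClosed k] [CharZero k] {A : Type u} [CommRing A] [IsDomain A]
  [HopfAlgebra k A] [Algebra.FiniteType k A]
  {R : Type u} [CommRing R] [Algebra k R] [Algebra.FiniteType k R] [HopfRep.Comod k A R] [GLin.IsCoactAlg k A R]

theorem actPt_pointInv (g : A →ₐ[k] k) (w : R →ₐ[k] k) :
    GLin.actPt k (GitQuot.pointInv g) (GLin.actPt k g w) = w :=
  AlgHom.ext fun f => by rw [actPt_apply, actPt_apply, actAlg_actAlg_inv]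

variable {Z : Type u} [CommRing Z] [Algebra k Z] [Algebra.FiniteType k Z] [HopfRep.Comod k A Z] [GLin.IsCoactAlg k A Z]

theorem actPt_fixed {e : Z} (he : e ∈ HopfRep.fixedPts k A Z) (g : A →ₐ[k] k) (z : Z →ₐ[k] k) :
    GLin.actPt k g z e = z e := by
  rw [actPt_apply, actAlg_apply, GitQuot.op_of_fixed he]
  simp

variable [Algebra R Z] [IsScalarTower k R Z]

/-- stabilisers near a closed orbit are subconjugate -/
theorem exists_invariant_stab (hG : HopfRep.IsLinearlyReductive k A)
    (hθ : Hoch.IsComodHom A (IsScalarTower.toAlgHom k R Z).toLinearMap)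
    (p : R →ₐ[k] Z) (hp : Hoch.IsComodHom A p.toLinearMap)
    (x : R →ₐ[k] k) (hx : GLin.IsClosedOrbit k A x) (hpP : ∀ r ∈ RingHom.ker (GLin.orbitHom k A x), p r = 0)
    (z₀ : Z →ₐ[k] k) (hz₀θ : z₀.comp (IsScalarTower.toAlgHom k R Z) = x)
    (hinj : ∀ g : A →ₐ[k] k, GLin.actPt k g x = x → GLin.actPt k g z₀ = z₀)
    (d : Z) (hd : z₀ d ≠ 0) [Algebra.Etale R (Localization.Away d)] :
    ∃ f ∈ HopfRep.fixedPts k A R, x f ≠ 0 ∧ ∀ w : R →ₐ[k] k, w f ≠ 0 →
      ∃ g : A →ₐ[k] k, GLin.stabIdeal k A x ≤ GLin.stabIdeal k A (GLin.actPt k g w) := by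
  classical
  set θ := IsScalarTower.toAlgHom k R Z with hθdef
  have : IsNoetherianRing R := Algebra.FiniteType.isNoetherianRing k R
  have : Algebra.FiniteType R Z := Algebra.FiniteType.of_restrictScalars_finiteType k R Z
  have : Algebra.FinitePresentation R Z := Algebra.FinitePresentation.of_finiteType.1 inferInstance
  have hlocus := Algebra.basicOpen_subset_etaleLocus_iff_etale.2 ‹Algebra.Etale R (Localization.Away d)›
  let m : Ideal Z := RingHom.ker z₀.toRingHom
  have : m.IsMaximal := RingHom.ker_isMaximal_of_surjective z₀.toRingHom fun t => ⟨algebraMap k Z t, z₀.commutes t⟩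
  have : Algebra.IsEtaleAt R m := hlocus (show (⟨m, inferInstance⟩ : PrimeSpectrum Z) ∈ PrimeSpectrum.basicOpen d from
    fun h : z₀ d = 0 => hd h)
  obtain ⟨e, hefix, hz₀e, hgenZ⟩ := exists_invariant_generated hG hθ z₀ m rfl (hz₀θ.symm ▸ hx)
    (fun g hg => hinj g (by rwa [hz₀θ] at hg))
  -- the image of the good locus
  have het : Algebra.Etale R (Localization.Away (e * d)) :=
    Algebra.basicOpen_subset_etaleLocus_iff_etale.1 (Set.Subset.trans (PrimeSpectrum.basicOpen_mul_le_right e d) hlocus)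
  have hopen : IsOpen (Set.range (PrimeSpectrum.comap (algebraMap R (Localization.Away (e * d))))) :=
    PrimeSpectrum.isOpenMap_comap_of_hasGoingDown_of_finitePresentation.isOpen_range
  let W : Set (R →ₐ[k] k) := {w | ¬∃ z : Z →ₐ[k] k, z e ≠ 0 ∧ z.comp θ = w}
  let c : Ideal R := ⨅ w ∈ W, RingHom.ker w
  have hmemc : ∀ s, s ∈ c ↔ ∀ w ∈ W, w s = 0 := fun s => by simp [c, Ideal.mem_iInf, RingHom.mem_ker]
  have hc : HopfRep.IsSubcomod (k := k) (A := A) (c.restrictScalars k) := isSubcomod_of_actAlg _ fun g s hs => by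
    rw [Submodule.restrictScalars_mem, hmemc] at hs ⊢
    intro w hw
    rw [← actPt_apply]
    refine hs _ fun ⟨z, hze, hzw⟩ => hw ⟨GLin.actPt k (GitQuot.pointInv g) z, by rwa [actPt_fixed hefix], ?_⟩
    rw [← actPt_comp hθ, hzw, actPt_pointInv]
  have hxU : (⟨RingHom.ker x, RingHom.ker_isPrime x⟩ : PrimeSpectrum R) ∈
      Set.range (PrimeSpectrum.comap (algebraMap R (Localization.Away (e * d)))) := by
    have hu : ∀ u : Submonoid.powers (e * d), IsUnit (z₀ u) := by
      rintro ⟨_, n, rfl⟩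
      rw [map_pow, map_mul]
      exact (Ne.isUnit (mul_ne_zero hz₀e hd)).pow n
    let zL : Localization.Away (e * d) →ₐ[k] k := IsLocalization.liftAlgHom hu
    refine ⟨⟨RingHom.ker zL, RingHom.ker_isPrime zL⟩, PrimeSpectrum.ext (Ideal.ext fun r => ?_)⟩
    change zL (algebraMap R (Localization.Away (e * d)) r) = 0 ↔ x r = 0
    rw [IsScalarTower.algebraMap_apply R Z (Localization.Away (e * d))]
    simp only [zL, IsLocalization.liftAlgHom_apply]
    rw [IsLocalization.lift_eq, ← hz₀θ]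
    rfl
  obtain ⟨_, ⟨_, ⟨s, rfl⟩, rfl⟩, hxs, hsU⟩ := PrimeSpectrum.isBasis_basic_opens.exists_subset_of_mem_open hxU hopen
  have : Algebra.FiniteType k (Localization.Away (e * d)) := Algebra.FiniteType.trans (S := Z) inferInstance inferInstance
  have hsc : s ∈ c := (hmemc s).2 fun w hw => by
    by_contra hws
    obtain ⟨⟨Q, hQ⟩, hQw⟩ := hsU (show (⟨RingHom.ker w, RingHom.ker_isPrime w⟩ : PrimeSpectrum R) ∈
      PrimeSpectrum.basicOpen s from hws)
    obtain ⟨z', hz'⟩ := GitQuot.exists_point (k := k) Q hQ.ne_top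
    refine hw ⟨z'.comp (IsScalarTower.toAlgHom k Z _), ?_, AlgHom.ext fun r => ?_⟩
    · intro h
      have hu := (IsLocalization.map_units (Localization.Away (e * d))
        (⟨e * d, 1, pow_one _⟩ : Submonoid.powers (e * d))).map z'
      rw [map_mul, map_mul, show z' (algebraMap Z _ e) = 0 from h, zero_mul] at hu
      exact not_isUnit_zero hu
    · have h1 : algebraMap R (Localization.Away (e * d)) (r - algebraMap k R (w r)) ∈ Q :=
        (congrArg PrimeSpectrum.asIdeal hQw).ge (by simp [RingHom.mem_ker])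
      have h2 := RingHom.mem_ker.1 (hz' h1)
      rw [map_sub, map_sub, ← IsScalarTower.algebraMap_apply, AlgHom.commutes, sub_eq_zero] at h2
      refine Eq.trans ?_ h2
      rw [IsScalarTower.algebraMap_apply R Z (Localization.Away (e * d))]
      rfl
  obtain ⟨f, hffix, hfc, hxf⟩ := exists_invariant_mem hG x hx c hc ⟨s, hsc, hxs⟩
  refine ⟨f, hffix, by rw [hxf]; exact one_ne_zero, fun w hwf => ?_⟩
  obtain ⟨z, hze, hzw⟩ : ∃ z : Z →ₐ[k] k, z e ≠ 0 ∧ z.comp θ = w := not_not.1 fun h => hwf ((hmemc f).1 hfc w h)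
  obtain ⟨h, hh⟩ := exists_actPt_eq hx (z := z.comp p) fun r hr => by
    change z (p r) = 0
    rw [hpP r hr, map_zero]
  let g := GitQuot.pointInv h
  refine ⟨g, ?_⟩
  let z' := GLin.actPt k g z
  have hz'e : z' e ≠ 0 := by rw [actPt_fixed hefix]; exact hze
  have hz'θ : z'.comp θ = GLin.actPt k g w := by rw [← actPt_comp hθ, hzw]
  have hz'p : z'.comp p = x := by rw [← actPt_comp hp, ← hh, actPt_pointInv]
  rw [← hz'θ, ← hz'p]
  let J := GLin.stabIdeal k A (z'.comp θ)
  change _ ≤ J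
  let Φ : Z →ₐ[k] A ⧸ J := (Ideal.Quotient.mkₐ k J).comp (GLin.orbitHom k A z')
  let Ψ : Z →ₐ[k] A ⧸ J := (Algebra.ofId k (A ⧸ J)).comp z'
  have hfix : ∀ a ∈ HopfRep.fixedPts k A Z, Φ a = Ψ a := fun a ha => by
    have h1 := RingHom.mem_ker.1 (GitQuot.sub_mem_ker_orbitHom (A := A) z' ha)
    rw [map_sub, AlgHom.commutes, sub_eq_zero] at h1
    change Ideal.Quotient.mkₐ k J (GLin.orbitHom k A z' a) = _
    rw [h1, AlgHom.commutes]
    rfl
  have hadj : ∀ a ∈ Algebra.adjoin R (HopfRep.fixedPts k A Z : Set Z), Φ a = Ψ a := by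
    intro a ha
    induction ha using Algebra.adjoin_induction with
    | mem a ha => exact hfix a ha
    | algebraMap r =>
      have h1 : GLin.orbitHom k A (z'.comp θ) (r - algebraMap k R (z' (θ r))) ∈ J :=
        Ideal.mem_map_of_mem _ (by simp [RingHom.mem_ker])
      rw [map_sub, AlgHom.commutes, orbitHom_comp hθ] at h1
      change Ideal.Quotient.mk J (GLin.orbitHom k A z' (θ r)) = algebraMap k (A ⧸ J) (z' (θ r))
      rw [Ideal.Quotient.eq.2 h1]
      rfl
    | add a b _ _ ha hb => rw [map_add, map_add, ha, hb]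
    | mul a b _ _ ha hb => rw [map_mul, map_mul, ha, hb]
  have hall : Φ = Ψ := AlgHom.ext fun a => by
    obtain ⟨n, hn⟩ := hgenZ a
    have h1 := hadj _ hn
    rw [map_mul, map_mul, map_pow, map_pow, hfix e hefix] at h1
    exact (((Ne.isUnit hz'e).map (Algebra.ofId k (A ⧸ J))).pow n).mul_left_cancel h1
  refine Ideal.map_le_iff_le_comap.2 fun r hr => ?_
  rw [Ideal.mem_comap, ← Ideal.Quotient.eq_zero_iff_mem, orbitHom_comp hp]
  refine (DFunLike.congr_fun hall (p r)).trans ?_
  change algebraMap k (A ⧸ J) ((z'.comp p) r) = 0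
  rw [RingHom.mem_ker.1 hr, map_zero]

end Groth.ComodLib.Luna
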